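import Mathlib

/-!
# The possible lengths of the suborbits

`L` is a length, `s` the order of its stabilizer, `n` the number of conjugates of `z` normalizing both; `e32`, `e40`,
`e56` say which kinds occur.
-/

set_option autoImplicit false

namespace CfsgLib.Spor.JFourType.Suborbit

/-- The lengths of suborbits with at least one conjugate of `z`, all of its class. -/
theorem middle_arith {L s n a : ℕ} {e32 e40 e56 : Bool} {k32 k40 k56 : ℕ} (hs : s * L = 501397585920)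
    (hn : L * n = 1771 * ((if e32 then 18432 else 0) + (if e40 then 23040 else 0) + if e56 then 5760 else 0))
    (h32 : L * k32 = if e32 then 1771 * 18432 else 0) (h40 : L * k40 = if e40 then 1771 * 23040 else 0)
    (h56 : L * k56 = if e56 then 1771 * 5760 else 0)
    (ha : a ≤ 11) (hna : n + 1 = 2 ^ a) (hn0 : n ≠ 0) (h7 : ¬ 7 ∣ s) (h5 : 5 ∣ s → e32 = true) :
    (e32 = true ∧ e40 = false ∧ e56 = false ∧ (L = 32643072 ∧ n = 1 ∨ L = 10881024 ∧ n = 3)) ∨
    (e32 = true ∧ e40 = false ∧ e56 = true ∧ L = 680064 ∧ n = 63) ∨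
    (e32 = false ∧ e40 = true ∧ e56 = false ∧ (L = 40803840 ∧ n = 1 ∨ L = 13601280 ∧ n = 3)) ∨
    (e32 = false ∧ e40 = false ∧ e56 = true ∧ (L = 10200960 ∧ n = 1 ∨ L = 3400320 ∧ n = 3)) ∨
    (e32 = false ∧ e40 = true ∧ e56 = true ∧ L = 3400320 ∧ n = 15) := by
  obtain rfl : n = 2 ^ a - 1 := by omega
  have hS : s * (L * (2 ^ a - 1)) = 501397585920 * (2 ^ a - 1) := by rw [← mul_assoc, hs]
  have q32 : k32 * (L * (2 ^ a - 1)) = L * k32 * (2 ^ a - 1) := by ring
  have q40 : k40 * (L * (2 ^ a - 1)) = L * k40 * (2 ^ a - 1) := by ring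
  have q56 : k56 * (L * (2 ^ a - 1)) = L * k56 * (2 ^ a - 1) := by ring
  rw [hn] at hS q32 q40 q56
  rw [h32] at q32
  rw [h40] at q40
  rw [h56] at q56
  cases e32 <;> cases e40 <;> cases e56 <;> simp only [Bool.false_eq_true, if_false, if_true, and_true, true_and,
    false_and, and_false, or_false, false_or, imp_false, reduceCtorEq] at * <;> interval_cases a <;> omega

/-- The stabilizer of a suborbit without such members, prime to eleven. -/
theorem rest_plain {L s : ℕ} (hs : s * L = 501397585920) (hd : s ∣ 244823040) (h27 : ¬ 27 ∣ s) (h5 : ¬ 5 ∣ s)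
    (h7 : ¬ 7 ∣ s) (h23 : ¬ 23 ∣ s) (h11 : ¬ 11 ∣ s) : 54405120 ≤ L := by
  have hc : ∀ {p : ℕ}, p.Prime → ¬ p ∣ s → Nat.Coprime s p := fun hp h => ((hp.coprime_iff_not_dvd).2 h).symm
  have hd' : s ∣ 27648 := Nat.Coprime.dvd_of_dvd_mul_right
    ((((hc (by norm_num) h5).mul_right (hc (by norm_num) h7)).mul_right (hc (by norm_num) h11)).mul_right
      (hc (by norm_num) h23) : Nat.Coprime s (5 * 7 * 11 * 23))
    (show s ∣ 27648 * (5 * 7 * 11 * 23) from hd)
  obtain ⟨i, j, hi, hj, rfl⟩ := Nat.dvd_mul.1 (show s ∣ 2 ^ 10 * 3 ^ 3 from hd')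
  obtain ⟨u, hu, rfl⟩ := (Nat.dvd_prime_pow Nat.prime_two).1 hi
  obtain ⟨v, hv, rfl⟩ := (Nat.dvd_prime_pow Nat.prime_three).1 hj
  have hv2 : v ≤ 2 := by
    by_contra hv2
    exact h27 (Dvd.dvd.mul_left (by rw [show v = 3 by omega]; norm_num) _)
  have hle : 2 ^ u * 3 ^ v ≤ 9216 :=
    (Nat.mul_le_mul (Nat.pow_le_pow_right (by norm_num) hu) (Nat.pow_le_pow_right (by norm_num) hv2)).trans
      (by norm_num)
  have := Nat.mul_le_mul_right L hle
  omega

/-- The stabilizer of a suborbit without such members, divisible by eleven. -/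
theorem rest_eleven {L s m k : ℕ} (hs : s * L = 501397585920) (hd : s ∣ 244823040) (h27 : ¬ 27 ∣ s) (h5 : ¬ 5 ∣ s)
    (h7 : ¬ 7 ∣ s) (h23 : ¬ 23 ∣ s) (hm : s = m * (11 * k)) (hk : k = 1 ∨ k = 2) (hm1 : m % 11 = 1) :
    54405120 ≤ L ∨ L = 44513280 := by
  have hmd : m * k ∣ 22256640 := by
    refine Nat.dvd_of_mul_dvd_mul_left (k := 11) (by norm_num) ?_
    rw [show 11 * (m * k) = s by rw [hm]; ring]
    exact hd
  have hc : ∀ {p : ℕ}, p.Prime → ¬ p ∣ s → Nat.Coprime (m * k) p := fun hp h =>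
    Nat.Coprime.coprime_dvd_left ⟨11, by rw [hm]; ring⟩ ((hp.coprime_iff_not_dvd).2 h).symm
  have hd' : m * k ∣ 2 ^ 10 * 3 ^ 3 := Nat.Coprime.dvd_of_dvd_mul_right
    (((hc (by norm_num) h5).mul_right (hc (by norm_num) h7)).mul_right
      (hc (by norm_num) h23) : Nat.Coprime (m * k) (5 * 7 * 23))
    (show m * k ∣ 2 ^ 10 * 3 ^ 3 * (5 * 7 * 23) from hmd.trans (by norm_num))
  obtain ⟨i, j, hi, hj, e⟩ := Nat.dvd_mul.1 hd'
  obtain ⟨u, hu, rfl⟩ := (Nat.dvd_prime_pow Nat.prime_two).1 hi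
  obtain ⟨v, hv, rfl⟩ := (Nat.dvd_prime_pow Nat.prime_three).1 hj
  have hs' : 11 * (2 ^ u * 3 ^ v) * L = 501397585920 := by rw [e, ← hs, hm]; ring
  have hv2 : v ≤ 2 := by
    by_contra hv2
    refine h27 ?_
    rw [hm, show m * (11 * k) = 11 * (m * k) by ring, ← e, show v = 3 by omega]
    exact Dvd.dvd.mul_left (Dvd.dvd.mul_left (by norm_num) _) _
  interval_cases u <;> interval_cases v <;> rcases hk with rfl | rfl <;> omega

end CfsgLib.Spor.JFourType.Suborbit
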