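import Cfsg.Agent.Lib.Spor.JFourType.Suborbit.HexDef
import Cfsg.Agent.Lib.Spor.JFourType.SecondClass
import Cfsg.Agent.Lib.Spor.JFourType.CentT
import Cfsg.Agent.Lib.Spor.JFourType.Orbit

/-!
# The conjugates of `W`

Orbits of subgroups under conjugation, and the facts about the conjugates of `W`: an involution that is not
conjugate to `z` lies in only one of them, and those through `z` correspond to the conjugates of `I`.
-/

set_option autoImplicit false
set_option linter.style.haveILetI false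

namespace CfsgLib.Spor.JFourType

open Subgroup

namespace Suborbit

universe u

variable {G : Type u} [Group G]

theorem mem_normalizer_iff_conjS [Finite G] {g : G} {K : Subgroup G} :
    g ∈ normalizer (K : Set G) ↔ conjS g K = K := by
  refine ⟨conjS_of_mem_normalizer, fun h => mem_normalizer_iff''.2 fun x => ?_⟩
  have := mem_conjS (g := g) (x := x) (K := K)
  rw [h] at this
  exact this

theorem mem_normalizer_conjS [Finite G] {g x : G} {K : Subgroup G} :
    x ∈ normalizer (conjS g K : Set G) ↔ g⁻¹ * x * g ∈ normalizer (K : Set G) := by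
  rw [mem_normalizer_iff_conjS, mem_normalizer_iff_conjS]
  constructor
  · intro h
    rw [← conjS_conjS, ← conjS_conjS, h, conjS_conjS, inv_mul_cancel, conjS_one]
  · intro h
    apply conjS_injective g⁻¹
    rwa [conjS_conjS, conjS_conjS, conjS_conjS, inv_mul_cancel, conjS_one]

theorem normalizer_conjS [Finite G] (g : G) (K : Subgroup G) :
    normalizer (conjS g K : Set G) = conjS g (normalizer (K : Set G)) := by
  ext x
  rw [mem_normalizer_conjS, mem_conjS]

theorem card_conjS (g : G) (K : Subgroup G) : Nat.card ↥(conjS g K) = Nat.card ↥K :=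
  (Nat.card_congr (equivMapOfInjective _ _ (MulAut.conj g).injective).toEquiv).symm

/-- Orbit and stabilizer for conjugation on subgroups. -/
theorem ncard_orbS_mul [Finite G] (S K : Subgroup G) :
    (orbS S K).ncard * Nat.card ↥(S ⊓ normalizer (K : Set G) : Subgroup G) = Nat.card ↥S := by
  letI : MulAction ↥S (Subgroup G) :=
    { smul := fun x L => conjS (x : G) L
      one_smul := fun L => conjS_one L
      mul_smul := fun x y L => (conjS_conjS (x : G) (y : G) L).symm }
  have ho : MulAction.orbit ↥S K = orbS S K := by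
    ext L
    exact ⟨fun ⟨x, e⟩ => ⟨x, x.2, e⟩, fun ⟨x, hx, e⟩ => ⟨⟨x, hx⟩, e⟩⟩
  have e : MulAction.stabilizer ↥S K = (S ⊓ normalizer (K : Set G)).subgroupOf S := by
    ext x
    rw [MulAction.mem_stabilizer_iff, mem_subgroupOf, mem_inf, mem_normalizer_iff_conjS]
    exact ⟨fun h => ⟨x.2, h⟩, fun h => h.2⟩
  have h := (MulAction.stabilizer ↥S K).card_mul_index
  rw [MulAction.index_stabilizer, ho, e, Nat.card_congr (subgroupOfEquivOfLe inf_le_left).toEquiv, mul_comm] at h
  exact h

theorem orbS_self (S K : Subgroup G) : K ∈ orbS S K := ⟨1, one_mem _, conjS_one K⟩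

theorem orbS_eq_of_mem {S K L : Subgroup G} (h : L ∈ orbS S K) : orbS S L = orbS S K := by
  obtain ⟨x, hx, rfl⟩ := h
  ext M
  constructor
  · rintro ⟨y, hy, rfl⟩
    exact ⟨y * x, mul_mem hy hx, by rw [conjS_conjS]⟩
  · rintro ⟨y, hy, rfl⟩
    exact ⟨y * x⁻¹, mul_mem hy (inv_mem hx), by rw [conjS_conjS, inv_mul_cancel_right]⟩

/-- Double counting of a relation with constant numbers on both sides. -/
theorem ncard_mul_eq {α β : Type*} [Finite α] [Finite β] (S : Set α) (T : Set β) (r : α → β → Prop) {a b : ℕ}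
    (ha : ∀ x ∈ S, {y | y ∈ T ∧ r x y}.ncard = a) (hb : ∀ y ∈ T, {x | x ∈ S ∧ r x y}.ncard = b) :
    S.ncard * a = T.ncard * b := by
  classical
  have key := Finset.sum_card_bipartiteAbove_eq_sum_card_bipartiteBelow r
    (s := S.toFinite.toFinset) (t := T.toFinite.toFinset)
  have h1 : ∀ x ∈ S.toFinite.toFinset, (T.toFinite.toFinset.bipartiteAbove r x).card = a := fun x hx => by
    rw [← ha x ((Set.Finite.mem_toFinset _).1 hx), ← Set.ncard_coe_finset, Finset.bipartiteAbove, Finset.coe_filter]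
    congr 1; ext; simp
  have h2 : ∀ y ∈ T.toFinite.toFinset, (S.toFinite.toFinset.bipartiteBelow r y).card = b := fun y hy => by
    rw [← hb y ((Set.Finite.mem_toFinset _).1 hy), ← Set.ncard_coe_finset, Finset.bipartiteBelow, Finset.coe_filter]
    congr 1; ext; simp
  rw [Finset.sum_congr rfl h1, Finset.sum_congr rfl h2, Finset.sum_const, Finset.sum_const, smul_eq_mul,
    smul_eq_mul, ← Set.ncard_eq_toFinset_card S, ← Set.ncard_eq_toFinset_card T] at key
  exact key

end Suborbit

namespace Ctx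

open Suborbit

universe u

variable {G : Type u} [Group G] [Finite G] {A : Type} [Group A] {J I R : Subgroup A}
  {z : G} {P : Subgroup G} (c : Ctx J I R z P)
include c

/-- The conjugates of `W`. -/
noncomputable def Pts : Set (Subgroup G) := hexs c.W

theorem W_mem_Pts : c.W ∈ c.Pts := ⟨1, conjS_one _⟩

theorem Pts_conj {U : Subgroup G} (hU : U ∈ c.Pts) (g : G) : conjS g U ∈ c.Pts := by
  obtain ⟨h, rfl⟩ := hU
  exact ⟨g * h, (conjS_conjS g h _).symm⟩

theorem Pts_card {U : Subgroup G} (hU : U ∈ c.Pts) : Nat.card ↥U = 2 ^ 11 := by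
  obtain ⟨g, rfl⟩ := hU
  rw [card_conjS, c.card_W]

theorem Pts_comm {U : Subgroup G} (hU : U ∈ c.Pts) {x y : G} (hx : x ∈ U) (hy : y ∈ U) : x * y = y * x := by
  obtain ⟨g, rfl⟩ := hU
  rw [mem_conjS] at hx hy
  have h := c.W_comm hx hy
  calc x * y = g * (g⁻¹ * x * g * (g⁻¹ * y * g)) * g⁻¹ := by group
    _ = g * (g⁻¹ * y * g * (g⁻¹ * x * g)) * g⁻¹ := by rw [h]
    _ = _ := by group

theorem Pts_sq {U : Subgroup G} (hU : U ∈ c.Pts) {x : G} (hx : x ∈ U) : x * x = 1 := by
  obtain ⟨g, rfl⟩ := hU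
  have h := c.W_sq (mem_conjS.1 hx)
  calc x * x = g * (g⁻¹ * x * g * (g⁻¹ * x * g)) * g⁻¹ := by group
    _ = 1 := by rw [h]; group

/-- An involution outside the class of `z` lies in only one conjugate of `W`. -/
theorem eq_W_of_Tset (hs : c.Split) {U : Subgroup G} (hU : U ∈ c.Pts) {t : G} (ht : t ∈ c.Tset) (htU : t ∈ U) :
    U = c.W := by
  obtain ⟨g, rfl⟩ := hU
  rw [mem_conjS] at htU
  obtain ⟨n, hn, e⟩ := c.fusion_W htU ht.1 (isConj_iff.2 ⟨g, by group⟩)
  have hgn : g * n⁻¹ ∈ normalizer (c.W : Set G) := c.cent_Tset_le hs ht (mem_centralizer_singleton_iff.2 (by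
    calc g * n⁻¹ * t = g * n⁻¹ * (n * (g⁻¹ * t * g) * n⁻¹) := by rw [e]
      _ = t * (g * n⁻¹) := by group))
  have hg : g ∈ normalizer (c.W : Set G) := by
    have := mul_mem hgn hn
    rwa [inv_mul_cancel_right] at this
  exact conjS_of_mem_normalizer hg

/-- A conjugate through `z` comes from `H`. -/
theorem exists_H_conj {U : Subgroup G} (hU : U ∈ c.Pts) (hz : z ∈ U) : ∃ h ∈ c.H, conjS h c.W = U := by
  obtain ⟨g, rfl⟩ := hU
  obtain ⟨n, hn, e⟩ := c.fusion_W (mem_conjS.1 hz) c.z_mem_W' (isConj_iff.2 ⟨g, by group⟩)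
  refine ⟨g * n⁻¹, mem_centralizer_singleton_iff.2 ?_, ?_⟩
  · calc g * n⁻¹ * z = g * n⁻¹ * (n * (g⁻¹ * z * g) * n⁻¹) := by rw [e]
      _ = z * (g * n⁻¹) := by group
  · rw [← conjS_conjS, conjS_of_mem_normalizer (inv_mem hn)]

theorem z_mem_conj {h : G} (hh : h ∈ c.H) : z ∈ conjS h c.W := by
  rw [mem_conjS, mul_assoc, ← c.comm_z hh, inv_mul_cancel_left]
  exact c.z_mem_W'

theorem im_normalizer_of_W {h : G} (hh : h ∈ c.H) (hn : h ∈ normalizer (c.W : Set G)) :
    c.im h ∈ normalizer (I : Set A) := by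
  haveI := c.finite_A
  refine mem_normalizer_fintype fun i hi => ?_
  have h1 := c.im_mem_I_of_W ((mem_normalizer_iff.1 hn _).1 (c.lv_mem_W' ⟨i, hi⟩))
  rwa [c.im_conj hh (c.lv_H _), c.im_lv] at h1

/-- Two conjugates through `z` agree when their conjugates of `I` agree. -/
theorem conjS_W_eq_iff {h k : G} (hh : h ∈ c.H) (hk : k ∈ c.H) :
    conjS h c.W = conjS k c.W ↔ conjS (c.im h) I = conjS (c.im k) I := by
  haveI := c.finite_A
  have him : c.im (k⁻¹ * h) = (c.im k)⁻¹ * c.im h := by rw [c.im_mul (inv_mem hk) hh, c.im_inv hk]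
  constructor
  · intro e
    have hn : k⁻¹ * h ∈ normalizer (c.W : Set G) := mem_normalizer_iff_conjS.2 (by
      rw [← conjS_conjS, e, conjS_conjS, inv_mul_cancel, conjS_one])
    have := conjS_of_mem_normalizer (c.im_normalizer_of_W (mul_mem (inv_mem hk) hh) hn)
    rw [him, ← conjS_conjS] at this
    have h2 := congrArg (conjS (c.im k)) this
    rwa [conjS_conjS, mul_inv_cancel, conjS_one] at h2
  · intro e
    have hn : c.im (k⁻¹ * h) ∈ normalizer (I : Set A) := mem_normalizer_iff_conjS.2 (by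
      rw [him, ← conjS_conjS, e, conjS_conjS, inv_mul_cancel, conjS_one])
    have := conjS_of_mem_normalizer (c.normW_of_im (mul_mem (inv_mem hk) hh) hn)
    rw [← conjS_conjS] at this
    have h2 := congrArg (conjS k) this
    rwa [conjS_conjS, mul_inv_cancel, conjS_one] at h2

end Ctx

end CfsgLib.Spor.JFourType
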