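import Cfsg.Prelude.Def_Transfer
import Mathlib

/-!
# The conjugates of the first subgroup of the automorphism group and their orbits
-/

set_option autoImplicit false

namespace CfsgLib.Spor.JFourType.Suborbit

open Subgroup

universe u

variable {A : Type u} [Group A]

/-- The conjugate of `K` by `g`. -/
def conjS (g : A) (K : Subgroup A) : Subgroup A := K.map (MulAut.conj g).toMonoidHom

theorem mem_conjS {g x : A} {K : Subgroup A} : x ∈ conjS g K ↔ g⁻¹ * x * g ∈ K := by
  rw [conjS, mem_map_equiv, MulAut.conj_symm_apply]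

theorem conjS_one (K : Subgroup A) : conjS 1 K = K := by ext x; simp [mem_conjS]

theorem conjS_conjS (g h : A) (K : Subgroup A) : conjS g (conjS h K) = conjS (g * h) K := by
  ext x
  rw [mem_conjS, mem_conjS, mem_conjS, show h⁻¹ * (g⁻¹ * x * g) * h = (g * h)⁻¹ * x * (g * h) by group]

theorem conjS_injective (g : A) : Function.Injective (conjS g : Subgroup A → Subgroup A) := fun K L h => by
  have := congrArg (conjS g⁻¹) h
  rwa [conjS_conjS, conjS_conjS, inv_mul_cancel, conjS_one, conjS_one] at this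

theorem conjS_of_mem_normalizer {g : A} {K : Subgroup A} (h : g ∈ normalizer (K : Set A)) : conjS g K = K := by
  ext x
  rw [mem_conjS]
  have := (mem_normalizer_iff''.1 h) x
  exact this.symm

/-- The conjugates of `K` under `S`. -/
def orbS (S : Subgroup A) (K : Subgroup A) : Set (Subgroup A) := {L | ∃ x ∈ S, conjS x K = L}

/-- The conjugates of `I`. -/
def hexs (I : Subgroup A) : Set (Subgroup A) := {K | ∃ g, conjS g I = K}

/-- The conjugates of `K` in `hexs I` with an orbit of length `n` under `S`. -/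
def lenSet (I S : Subgroup A) (n : ℕ) : Set (Subgroup A) := {K | K ∈ hexs I ∧ (orbS S K).ncard = n}

/-- The facts about the conjugates of `I` in the automorphism group. -/
structure HexFacts (J I : Subgroup A) : Prop where
  near : ∃ g₁ g₂ : A, (orbS (normalizer (I : Set A)) (conjS g₁ I)).ncard = 60 ∧
    (orbS (normalizer (I : Set A)) (conjS g₂ I)).ncard = 16 ∧
    (∀ K ∈ hexs I, K = I ∨ K ∈ orbS (normalizer (I : Set A)) (conjS g₁ I) ∨
      K ∈ orbS (normalizer (I : Set A)) (conjS g₂ I)) ∧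
    (orbS I (conjS g₁ I)).ncard = 4 ∧ (orbS I (conjS g₂ I)).ncard = 16 ∧
    ∀ i ∈ I, i ≠ 1 → ∀ j ∈ I, j ≠ 1 → ∃ x : A, x ∈ normalizer (I : Set A) ∧
      conjS x (conjS g₂ I) = conjS g₂ I ∧ x * i * x⁻¹ = j
  card : (hexs I).ncard = 77
  small : ∃ a : A, a ∉ J ∧ a * a = 1 ∧ {x : A | IsConj a x}.ncard = 330 ∧
    ∀ n ∈ ([7, 14, 56] : List ℕ), (lenSet I (centralizer ({a} : Set A)) n).ncard = n
  large : ∃ a : A, a ∉ J ∧ a * a = 1 ∧ {x : A | IsConj a x}.ncard = 1386 ∧
    ∀ n ∈ ([5, 32, 40] : List ℕ), (lenSet I (centralizer ({a} : Set A)) n).ncard = n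

end CfsgLib.Spor.JFourType.Suborbit
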