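import Cfsg.Agent.Lib.Spor.JFourType.Suborbit.HexChecks
import Cfsg.Agent.Lib.Spor.JFourType.Suborbit.HexDef
import Cfsg.Agent.Lib.Spor.JFourType.Facts22Extra
import Cfsg.Agent.Lib.Spor.JFourType.Order.OuterClass22

/-!
# The hexads of the pair stabilizer

A conjugate of the first subgroup is its octad through the pair; orbit lengths come from witnesses and invariants.
-/

set_option autoImplicit false

namespace CfsgLib.Spor.JFourType.Suborbit

open Cfsg Subgroup MulAction
open scoped Pointwise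

/-- An element of the pair stabilizer given by a code. -/
noncomputable def gp {c : ℕ} (h : pairOk c = true) : ↥Gam :=
  ⟨permOf c, by
    simp only [pairOk, Bool.and_eq_true, Bool.or_eq_true, beq_iff_eq] at h
    obtain ⟨hM, hp⟩ := h
    have hc := isPermCode_of_isM24Code hM
    refine mem_Gam.2 ⟨permOf_mem_M24 hM, ?_⟩
    rw [show (none : GolayPt) = idxPt 23 from rfl, OuterAut.zero_eq, permOf_idxPt hc (by norm_num),
      permOf_idxPt hc (by norm_num)]
    rcases hp with ⟨e1, e2⟩ | ⟨e1, e2⟩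
    · exact Or.inl ⟨by rw [e1], by rw [e2]⟩
    · exact Or.inr ⟨by rw [e1], by rw [e2]⟩⟩

theorem isPerm_of_pairOk {c : ℕ} (h : pairOk c = true) : isPermCode c = true := by
  simp only [pairOk, Bool.and_eq_true] at h
  exact isPermCode_of_isM24Code h.1

theorem gp_smul {c : ℕ} (h : pairOk c = true) (m : ℕ) : (gp h : Equiv.Perm GolayPt) • pts m = pts (permMask c m) :=
  smul_pts (isPerm_of_pairOk h) m

/-- The octad of a conjugate. -/
def oct (g : ↥Gam) : Finset GolayPt := (g : Equiv.Perm GolayPt) • O8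

theorem oct_mul (x g : ↥Gam) : oct (x * g) = (x : Equiv.Perm GolayPt) • oct g := by
  rw [oct, oct, coe_mul, mul_smul]

theorem conjS_eq_iff {g h : ↥Gam} : conjS g I22 = conjS h I22 ↔ oct g = oct h := by
  constructor
  · intro e
    have e1 : conjS (h⁻¹ * g) I22 = I22 := by rw [← conjS_conjS, e, conjS_conjS, inv_mul_cancel, conjS_one]
    have hn : h⁻¹ * g ∈ normalizer (I22 : Set ↥Gam) := by
      refine mem_normalizer_iff''.2 fun y => ?_
      have := mem_conjS (g := h⁻¹ * g) (x := y) (K := I22)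
      rw [e1] at this
      exact this
    have h8 := smul_O8_of_normalizer hn
    rw [coe_mul, coe_inv, mul_smul, inv_smul_eq_iff] at h8
    exact h8
  · intro e
    have hn : h⁻¹ * g ∈ normalizer (I22 : Set ↥Gam) := mem_normalizer_I22_of (by
      rw [coe_mul, coe_inv, mul_smul, ← oct, e, oct, inv_smul_smul])
    conv_lhs => rw [show g = h * (h⁻¹ * g) by group, ← conjS_conjS, conjS_of_mem_normalizer hn]

theorem list_lt {k : ℕ} (hk : k ∈ hexList) : k < 2 ^ 24 := by
  simpa using List.all_eq_true.1 list_ok.2.2 k hk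

theorem pts_list_inj {k l : ℕ} (hk : k ∈ hexList) (hl : l ∈ hexList) (h : pts k = pts l) : k = l :=
  pts_inj (list_lt hk) (list_lt hl) h

theorem witRow_spec {ok : ℕ → Bool} {root : ℕ} {q : ℕ × ℕ} (h : witRow ok root q = true) :
    ∃ hp : pairOk q.2 = true, ok q.2 = true ∧ (gp hp : Equiv.Perm GolayPt) • pts root = pts q.1 := by
  simp only [witRow, Bool.and_eq_true, beq_iff_eq] at h
  exact ⟨h.1.1, h.1.2, by rw [gp_smul h.1.1, h.2]⟩

theorem exists_rep {k : ℕ} (hk : k ∈ hexList) : ∃ g : ↥Gam, oct g = pts k := by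
  obtain ⟨p1, e1, p2, e2, -, -⟩ := roots_pair
  have g1 : oct (gp p1) = pts hexR1 := by rw [oct, O8, gp_smul, e1]
  have g2 : oct (gp p2) = pts hexR2 := by rw [oct, O8, gp_smul, e2]
  simp only [hexList, List.cons_append, List.mem_cons, List.mem_append, List.mem_map] at hk
  rcases hk with rfl | ⟨q, hq, rfl⟩ | ⟨q, hq, rfl⟩
  · exact ⟨1, by rw [oct, coe_one, one_smul, O8]⟩
  · obtain ⟨hp, -, h⟩ := witRow_spec (List.all_eq_true.1 nearOne_ok.1 q hq)
    exact ⟨gp hp * gp p1, by rw [oct_mul, g1, h]⟩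
  · obtain ⟨hp, -, h⟩ := witRow_spec (List.all_eq_true.1 nearTwo_ok.1 q hq)
    exact ⟨gp hp * gp p2, by rw [oct_mul, g2, h]⟩

/-- A representative of a listed octad. -/
noncomputable def rep (k : ℕ) : ↥Gam :=
  if h : k ∈ hexList then (exists_rep h).choose else 1

theorem oct_rep {k : ℕ} (hk : k ∈ hexList) : oct (rep k) = pts k := by
  rw [rep, dif_pos hk]; exact (exists_rep hk).choose_spec

/-- The conjugate with a listed octad. -/
noncomputable def hexOf (k : ℕ) : Subgroup ↥Gam := conjS (rep k) I22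

theorem hexOf_eq {k : ℕ} (hk : k ∈ hexList) {g : ↥Gam} (h : oct g = pts k) : conjS g I22 = hexOf k :=
  conjS_eq_iff.2 (h.trans (oct_rep hk).symm)

theorem hexOf_injOn : Set.InjOn hexOf {k | k ∈ hexList} := fun k hk l hl e =>
  pts_list_inj hk hl (by rw [← oct_rep hk, ← oct_rep hl]; exact conjS_eq_iff.1 e)

theorem image_card {p : ℕ → Bool} :
    (hexOf '' {k | k ∈ hexList ∧ p k = true}).ncard = (hexList.filter p).length := by
  rw [(hexOf_injOn.mono fun k hk => hk.1).ncard_image,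
    show {k | k ∈ hexList ∧ p k = true} = ((hexList.filter p).toFinset : Set ℕ) by ext k; simp,
    Set.ncard_coe_finset, List.toFinset_card_of_nodup (list_ok.1.filter _)]

theorem hexs_eq : hexs I22 = hexOf '' {k | k ∈ hexList} ∧ (hexs I22).ncard = 77 := by
  have hsub : hexOf '' {k | k ∈ hexList} ⊆ hexs I22 := by
    rintro _ ⟨k, -, rfl⟩
    exact ⟨rep k, rfl⟩
  have h77 : (hexOf '' {k | k ∈ hexList}).ncard = 77 := by
    have := image_card (p := fun _ => true)
    simp only [and_true, List.filter_true] at this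
    rw [this, list_ok.2.1]
  have hle : (hexs I22).ncard ≤ 77 := by
    have hf : (hexs I22) ⊆ Set.range
        (fun q : ↥Gam ⧸ normalizer (I22 : Set ↥Gam) => conjS q.out I22) := by
      rintro K ⟨g, rfl⟩
      obtain ⟨n, hn⟩ := QuotientGroup.mk_out_eq_mul (normalizer (I22 : Set ↥Gam)) g
      refine ⟨QuotientGroup.mk g, ?_⟩
      show conjS (QuotientGroup.mk g : ↥Gam ⧸ normalizer (I22 : Set ↥Gam)).out I22 = _
      rw [hn, ← conjS_conjS, conjS_of_mem_normalizer n.2]
    refine (Set.ncard_le_ncard hf (Set.finite_range _)).trans ?_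
    rw [← Nat.card_coe_set_eq]
    refine (Finite.card_range_le _).trans ?_
    rw [← index_eq_card]
    have hm := (normalizer (I22 : Set ↥Gam)).card_mul_index
    rw [card_Gam] at hm
    by_contra hcon
    have : 11520 * 78 ≤ Nat.card ↥(normalizer (I22 : Set ↥Gam)) * (normalizer (I22 : Set ↥Gam)).index :=
      Nat.mul_le_mul card_NI22 (by omega)
    omega
  have e := Set.eq_of_subset_of_ncard_le hsub (h77.symm ▸ hle) (Set.toFinite _)
  exact ⟨e.symm, by rw [← e, h77]⟩

theorem exists_list (g : ↥Gam) : ∃ k ∈ hexList, oct g = pts k := by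
  have h : conjS g I22 ∈ hexs I22 := ⟨g, rfl⟩
  rw [hexs_eq.1] at h
  obtain ⟨k, hk, e⟩ := h
  exact ⟨k, hk, (conjS_eq_iff.1 e.symm).trans (oct_rep hk)⟩

/-- An orbit from witnesses and an invariant. -/
theorem orbit_of {S : Subgroup ↥Gam} {f : ℕ → ℕ} {root : ℕ} {L : List (ℕ × ℕ)}
    (hS : ∀ x ∈ S, ∀ k ∈ hexList, ∀ l ∈ hexList, (x : Equiv.Perm GolayPt) • pts k = pts l → f l = f k)
    (hw : ∀ q ∈ L, ∃ x ∈ S, (x : Equiv.Perm GolayPt) • pts root = pts q.1)
    (hL : sameInv f root L = true) :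
    root ∈ hexList ∧
      (∀ k ∈ hexList, f k = f root → orbS S (hexOf k) = hexOf '' {l | l ∈ hexList ∧ (f l == f root) = true}) ∧
      (hexOf '' {l | l ∈ hexList ∧ (f l == f root) = true}).ncard = L.length := by
  simp only [sameInv, Bool.and_eq_true, List.all_eq_true, List.mem_filter, beq_iff_eq, List.contains_iff_mem,
    decide_eq_true_eq, and_imp] at hL
  obtain ⟨⟨⟨hall, hroot⟩, hnd⟩, hin⟩ := hL
  refine ⟨hroot, fun k hk hfk => ?_, ?_⟩
  · ext K
    constructor
    · rintro ⟨x, hx, rfl⟩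
      obtain ⟨l, hl, e⟩ := exists_list (x * rep k)
      refine ⟨l, ⟨hl, ?_⟩, ?_⟩
      · rw [oct_mul, oct_rep hk] at e
        rw [hS x hx k hk l hl e, hfk, beq_self_eq_true]
      · rw [← hexOf_eq hl e, hexOf, conjS_conjS]
    · rintro ⟨l, ⟨hl, hfl⟩, rfl⟩
      rw [beq_iff_eq] at hfl
      obtain ⟨q, hq, eq⟩ := List.mem_map.1 (hall k hk hfk)
      obtain ⟨p, hp, ep⟩ := List.mem_map.1 (hall l hl hfl)
      obtain ⟨x, hx, ex⟩ := hw q hq
      obtain ⟨y, hy, ey⟩ := hw p hp
      refine ⟨y * x⁻¹, mul_mem hy (inv_mem hx), ?_⟩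
      rw [hexOf, conjS_conjS]
      refine hexOf_eq hl ?_
      rw [oct_mul, oct_rep hk, coe_mul, coe_inv, mul_smul, ← eq, ← ex, inv_smul_smul, ey, ep]
  · rw [image_card]
    refine le_antisymm ?_ ?_
    · have : (hexList.filter fun l => f l == f root) ⊆ L.map Prod.fst := fun l hl => by
        rw [List.mem_filter, beq_iff_eq] at hl
        exact hall l hl.1 hl.2
      simpa using ((list_ok.1.filter _).subperm this).length_le
    · have : L.map Prod.fst ⊆ hexList.filter fun l => f l == f root := fun l hl => by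
        obtain ⟨q, hq, rfl⟩ := List.mem_map.1 hl
        obtain ⟨x, hx, ex⟩ := hw q hq
        obtain ⟨l, hl, e⟩ := exists_list (x * rep root)
        rw [oct_mul, oct_rep hroot] at e
        have hq1 : q.1 < 2 ^ 24 := list_lt (hin _ (List.mem_map_of_mem hq))
        have := pts_inj hq1 (list_lt hl) (ex.symm.trans e)
        rw [List.mem_filter, this, beq_iff_eq]
        exact ⟨hl, hS x hx root hroot l hl e⟩
      simpa using (hnd.subperm this).length_le

theorem pop_and (k m : ℕ) : pop 24 (k &&& m) = (pts k ∩ pts m).card := by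
  rw [← card_pts]
  congr 1
  ext p
  simp [mem_pts, Nat.testBit_and]

theorem trace_inv {x : ↥Gam} (hx : (x : Equiv.Perm GolayPt) • O8 = O8) {k l : ℕ}
    (h : (x : Equiv.Perm GolayPt) • pts k = pts l) : nearInv l = nearInv k := by
  rw [nearInv, nearInv, pop_and, pop_and, ← h]
  conv_lhs => rw [show pts mO = O8 from rfl, ← hx, ← Finset.smul_finset_inter, Finset.card_smul_finset]
  rfl

theorem near_inv {x : ↥Gam} (hx : x ∈ normalizer (I22 : Set ↥Gam)) {k l : ℕ}
    (h : (x : Equiv.Perm GolayPt) • pts k = pts l) : nearInv l = nearInv k :=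
  trace_inv (smul_O8_of_normalizer hx) h

theorem small_orbit {root : ℕ} (hr : root ∈ hexList) (hn : (smallOrb root).Nodup) :
    (orbS I22 (hexOf root)).ncard = (smallOrb root).length := by
  have hall : ∀ l ∈ smallOrb root, l ∈ hexList ∧ ∃ x ∈ I22, (x : Equiv.Perm GolayPt) • pts root = pts l := by
    intro l hl
    simp only [smallOrb, List.mem_eraseDups, List.mem_map, List.mem_filter, List.mem_range] at hl
    obtain ⟨i, ⟨hi, hb⟩, rfl⟩ := hl
    have e : ((ge i hi : ↥Gam) : Equiv.Perm GolayPt) • pts root = pts (permMask (el i) root) := smul_pts (el_data hi).1 root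
    obtain ⟨k, hk, ek⟩ := exists_list (ge i hi * rep root)
    rw [oct_mul, oct_rep hr, e] at ek
    have hlt : permMask (el i) root < 2 ^ 24 := permMask_lt (el_data hi).1 root
    exact ⟨pts_inj hlt (list_lt hk) ek ▸ hk, ge i hi, mem_subgroupOf.2 (mem_I24.2 ⟨i, hi, hb, rfl⟩), e⟩
  have e : orbS I22 (hexOf root) = hexOf '' ((smallOrb root).toFinset : Set ℕ) := by
    ext K
    constructor
    · rintro ⟨x, hx, rfl⟩
      obtain ⟨i, hi, hb, e⟩ := I22_idx x hx
      refine ⟨permMask (el i) root, ?_, ?_⟩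
      · simp only [List.coe_toFinset, Set.mem_setOf_eq, smallOrb, List.mem_eraseDups, List.mem_map, List.mem_filter,
          List.mem_range]
        exact ⟨i, ⟨hi, hb⟩, rfl⟩
      · rw [hexOf, hexOf, conjS_conjS]
        have hl : permMask (el i) root ∈ hexList := (hall _ (by
          simp only [smallOrb, List.mem_eraseDups, List.mem_map, List.mem_filter, List.mem_range]
          exact ⟨i, ⟨hi, hb⟩, rfl⟩)).1
        exact (hexOf_eq hl (by rw [oct_mul, oct_rep hr, ← e, smul_pts (el_data hi).1])).symm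
    · rintro ⟨l, hl, rfl⟩
      obtain ⟨hl', x, hx, ex⟩ := hall l (List.mem_toFinset.1 hl)
      exact ⟨x, hx, by rw [hexOf, conjS_conjS]; exact hexOf_eq hl' (by rw [oct_mul, oct_rep hr, ex])⟩
  rw [e, (hexOf_injOn.mono fun l hl => (hall l (List.mem_toFinset.1 hl)).1).ncard_image, Set.ncard_coe_finset,
    List.toFinset_card_of_nodup hn]
where
  permMask_lt {P : ℕ} (h : isPermCode P = true) (m : ℕ) : permMask P m < 2 ^ 24 := by
    rw [show permMask P m = maskPts (pts (permMask P m)) from (Nat.eq_of_testBit_eq fun i => ?_)]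
    · exact maskPts_lt _
    · by_cases hi : i < 24
      · rw [maskPts, testBit_maskFn, decide_eq_true hi, Bool.true_and]
        simp [mem_pts, ptIdx_idxPt i hi]
      · rw [maskPts, testBit_maskFn, decide_eq_false hi, Bool.false_and, Bool.eq_false_iff, ne_eq, permMask,
          testBit_permMaskN]
        rintro ⟨j, hj, -, rfl⟩
        exact hi (permFn_lt h hj)

theorem fixEl_pts {i : ℕ} (hi : i < 256) (p : GolayPt) :
    p ∈ pts (octInv.fixEl i) ↔ permOf (el i) p = p := by
  rw [mem_pts, octInv.fixEl, testBit_maskFn, decide_eq_true (ptIdx_lt p), Bool.true_and, beq_iff_eq,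
    ← fix_iff (el_data hi).1 (ptIdx_lt p), idxPt_ptIdx]

theorem cent_inv {i : ℕ} (hi : i < 256) {x : ↥Gam}
    (hx : (x : Equiv.Perm GolayPt) * permOf (el i) = permOf (el i) * x) {k l : ℕ}
    (h : (x : Equiv.Perm GolayPt) • pts k = pts l) : octInv i l = octInv i k := by
  set a := permOf (el i)
  have hF : (x : Equiv.Perm GolayPt) • pts (octInv.fixEl i) = pts (octInv.fixEl i) := by
    refine Finset.eq_of_subset_of_card_le (fun q hq => ?_) (le_of_eq (Finset.card_smul_finset _ _).symm)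
    obtain ⟨p, hp, rfl⟩ := Finset.mem_smul_finset.1 hq
    rw [fixEl_pts hi] at hp ⊢
    rw [Equiv.Perm.smul_def, ← Equiv.Perm.mul_apply, ← hx, Equiv.Perm.mul_apply, hp]
  have e1 : (pts l ∩ pts (octInv.fixEl i)).card = (pts k ∩ pts (octInv.fixEl i)).card := by
    conv_lhs => rw [← h, ← hF, ← Finset.smul_finset_inter, Finset.card_smul_finset]
  have e2 : (pts l ∩ pts (permMask (el i) l)).card = (pts k ∩ pts (permMask (el i) k)).card := by
    rw [← smul_pts (el_data hi).1, ← smul_pts (el_data hi).1, ← h, ← mul_smul, ← hx, mul_smul,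
      ← Finset.smul_finset_inter, Finset.card_smul_finset]
  simp only [octInv, pop_and, e1, e2]

theorem commWith_spec {i : ℕ} (hi : i < 256) {c : ℕ} (hp : pairOk c = true) (h : commWith i c = true) {a : ↥Gam}
    (ha : (a : Equiv.Perm GolayPt) = permOf (el i)) : gp hp ∈ centralizer ({a} : Set ↥Gam) :=
  mem_centralizer_singleton_iff.2 (Subtype.ext (by
    rw [coe_mul, coe_mul, ha]
    exact eq_mul_of_commCodes (isPerm_of_pairOk hp) (el_data hi).1 h))

/-- The three orbits of the centralizer of a listed element. -/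
theorem cent_orbits {i : ℕ} (hi : i < 256) {a : ↥Gam} (ha : (a : Equiv.Perm GolayPt) = permOf (el i))
    {r₀ r₁ r₂ : ℕ} {L₀ L₁ L₂ : List (ℕ × ℕ)}
    (w₀ : L₀.all (witRow (commWith i) r₀) = true) (w₁ : L₁.all (witRow (commWith i) r₁) = true)
    (w₂ : L₂.all (witRow (commWith i) r₂) = true)
    (s₀ : sameInv (octInv i) r₀ L₀ = true) (s₁ : sameInv (octInv i) r₁ L₁ = true)
    (s₂ : sameInv (octInv i) r₂ L₂ = true) (n01 : octInv i r₀ ≠ octInv i r₁) (n02 : octInv i r₀ ≠ octInv i r₂)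
    (n12 : octInv i r₁ ≠ octInv i r₂) (d01 : L₀.length ≠ L₁.length) (d02 : L₀.length ≠ L₂.length)
    (d12 : L₁.length ≠ L₂.length) (hsum : L₀.length + L₁.length + L₂.length = 77) :
    ∀ n ∈ [L₀.length, L₁.length, L₂.length], (lenSet I22 (centralizer ({a} : Set ↥Gam)) n).ncard = n := by
  set S := centralizer ({a} : Set ↥Gam)
  have hS : ∀ x ∈ S, ∀ k ∈ hexList, ∀ l ∈ hexList, (x : Equiv.Perm GolayPt) • pts k = pts l →
      octInv i l = octInv i k := fun x hx k _ l _ h => cent_inv hi (by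
        have := congrArg Subtype.val (mem_centralizer_singleton_iff.1 hx)
        rwa [coe_mul, coe_mul, ha] at this) h
  have hw : ∀ {r : ℕ} {L : List (ℕ × ℕ)}, L.all (witRow (commWith i) r) = true → ∀ q ∈ L,
      ∃ x ∈ S, (x : Equiv.Perm GolayPt) • pts r = pts q.1 := fun hL q hq => by
    obtain ⟨hp, hok, h⟩ := witRow_spec (List.all_eq_true.1 hL q hq)
    exact ⟨gp hp, commWith_spec hi hp hok ha, h⟩
  obtain ⟨-, o₀, c₀⟩ := orbit_of hS (hw w₀) s₀
  obtain ⟨-, o₁, c₁⟩ := orbit_of hS (hw w₁) s₁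
  obtain ⟨-, o₂, c₂⟩ := orbit_of hS (hw w₂) s₂
  set T : ℕ → Set (Subgroup ↥Gam) := fun r => hexOf '' {l | l ∈ hexList ∧ (octInv i l == octInv i r) = true}
  have sub : ∀ r, T r ⊆ hexs I22 := fun r => hexs_eq.1 ▸ Set.image_mono fun l hl => hl.1
  have dis : ∀ {r s : ℕ}, octInv i r ≠ octInv i s → Disjoint (T r) (T s) := fun hrs =>
    Set.disjoint_left.2 fun K h h' => by
      obtain ⟨k, hk, rfl⟩ := h
      obtain ⟨l, hl, e⟩ := h'
      obtain rfl := hexOf_injOn hl.1 hk.1 e
      exact hrs ((beq_iff_eq.1 hk.2).symm.trans (beq_iff_eq.1 hl.2))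
  have cov : T r₀ ∪ T r₁ ∪ T r₂ = hexs I22 := by
    refine Set.eq_of_subset_of_ncard_le (Set.union_subset (Set.union_subset (sub _) (sub _)) (sub _)) ?_ (Set.toFinite _)
    rw [hexs_eq.2, Set.ncard_union_eq (Set.disjoint_union_left.2 ⟨dis n02, dis n12⟩),
      Set.ncard_union_eq (dis n01), c₀, c₁, c₂, hsum]
  have hlen : ∀ {r : ℕ} {L : List (ℕ × ℕ)}, (T r).ncard = L.length →
      (∀ k ∈ hexList, octInv i k = octInv i r → orbS S (hexOf k) = T r) → ∀ K ∈ T r, (orbS S K).ncard = L.length := by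
    rintro r L hc ho _ ⟨k, hk, rfl⟩
    rw [ho k hk.1 (beq_iff_eq.1 hk.2), hc]
  have key : ∀ K ∈ hexs I22, (K ∈ T r₀ ∧ (orbS S K).ncard = L₀.length) ∨ (K ∈ T r₁ ∧ (orbS S K).ncard = L₁.length) ∨
      (K ∈ T r₂ ∧ (orbS S K).ncard = L₂.length) := by
    intro K hK
    rw [← cov] at hK
    rcases hK with (h | h) | h
    exacts [Or.inl ⟨h, hlen c₀ o₀ K h⟩, Or.inr (Or.inl ⟨h, hlen c₁ o₁ K h⟩), Or.inr (Or.inr ⟨h, hlen c₂ o₂ K h⟩)]
  intro n hn
  simp only [List.mem_cons, List.not_mem_nil, or_false] at hn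
  have fin : ∀ {r : ℕ}, (T r).ncard = n → (∀ K ∈ T r, (orbS S K).ncard = n) →
      (∀ K ∈ hexs I22, (orbS S K).ncard = n → K ∈ T r) → (lenSet I22 S n).ncard = n := fun {r} hc h1 h2 => by
    refine Eq.trans (congrArg Set.ncard ?_) hc
    ext K
    exact ⟨fun h => h2 K h.1 h.2, fun h => ⟨sub _ h, h1 K h⟩⟩
  rcases hn with rfl | rfl | rfl
  · exact fin c₀ (hlen c₀ o₀) fun K hK e => by rcases key K hK with h | h | h <;> first | exact h.1 | omega
  · exact fin c₁ (hlen c₁ o₁) fun K hK e => by rcases key K hK with h | h | h <;> first | exact h.1 | omega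
  · exact fin c₂ (hlen c₂ o₂) fun K hK e => by rcases key K hK with h | h | h <;> first | exact h.1 | omega

theorem exists_outer_root {i : ℕ} (hi : i < 256) (hb : mRR.testBit i = true)
    (h : (permFn (el i) 23 != 23) = true) :
    ∃ a : ↥Gam, (a : Equiv.Perm GolayPt) = permOf (el i) ∧ a ∉ J22 ∧ a * a = 1 :=
  ⟨⟨_, (el_data hi).2.2.1⟩, rfl, outer_notMem hi h, RR22_sq (mem_subgroupOf.2 (mem_RR24.2 ⟨i, hi, hb, rfl⟩))⟩

theorem hexFacts22 : HexFacts J22 I22 where
  card := hexs_eq.2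
  near := by
    obtain ⟨p1, e1, p2, e2, i1, i2⟩ := roots_pair
    have g1 : oct (gp p1) = pts hexR1 := by rw [oct, O8, gp_smul, e1]
    have g2 : oct (gp p2) = pts hexR2 := by rw [oct, O8, gp_smul, e2]
    set S := normalizer (I22 : Set ↥Gam)
    have hS : ∀ x ∈ S, ∀ k ∈ hexList, ∀ l ∈ hexList, (x : Equiv.Perm GolayPt) • pts k = pts l →
        nearInv l = nearInv k := fun x hx k _ l _ h => near_inv hx h
    have hw : ∀ {r : ℕ} {L : List (ℕ × ℕ)}, L.all (witRow keepsO r) = true → ∀ q ∈ L,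
        ∃ x ∈ S, (x : Equiv.Perm GolayPt) • pts r = pts q.1 := fun hL q hq => by
      obtain ⟨hp, hok, h⟩ := witRow_spec (List.all_eq_true.1 hL q hq)
      exact ⟨gp hp, mem_normalizer_I22_of (keepsO_smul (isPerm_of_pairOk hp) hok), h⟩
    obtain ⟨r1, o1, c1⟩ := orbit_of hS (hw nearOne_ok.1) nearOne_ok.2.2
    obtain ⟨r2, o2, c2⟩ := orbit_of hS (hw nearTwo_ok.1) nearTwo_ok.2.2
    have E1 : conjS (gp p1) I22 = hexOf hexR1 := hexOf_eq r1 g1
    have E2 : conjS (gp p2) I22 = hexOf hexR2 := hexOf_eq r2 g2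
    refine ⟨gp p1, gp p2, ?_, ?_, ?_, ?_, ?_, ?_⟩
    · rw [E1, o1 _ r1 rfl, c1, nearOne_ok.2.1]
    · rw [E2, o2 _ r2 rfl, c2, nearTwo_ok.2.1]
    · intro K hK
      rw [E1, E2, o1 _ r1 rfl, o2 _ r2 rfl]
      rw [hexs_eq.1] at hK
      obtain ⟨k, hk, rfl⟩ := hK
      have hk' := hk
      simp only [hexList, Set.mem_setOf_eq, List.cons_append, List.mem_cons, List.mem_append] at hk'
      rcases hk' with rfl | hk' | hk'
      · left
        rw [← hexOf_eq hk (g := 1) (by rw [oct, coe_one, one_smul, O8]), conjS_one]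
      · right; left
        obtain ⟨q, hq, rfl⟩ := List.mem_map.1 hk'
        obtain ⟨x, hx, e⟩ := hw nearOne_ok.1 q hq
        exact ⟨q.1, ⟨hk, beq_iff_eq.2 (hS x hx _ r1 _ hk e)⟩, rfl⟩
      · right; right
        obtain ⟨q, hq, rfl⟩ := List.mem_map.1 hk'
        obtain ⟨x, hx, e⟩ := hw nearTwo_ok.1 q hq
        exact ⟨q.1, ⟨hk, beq_iff_eq.2 (hS x hx _ r2 _ hk e)⟩, rfl⟩
    rotate_left 2
    · intro i hi hi1 j hj hj1
      obtain ⟨hb, hb0, hbI, hall⟩ := transTwo_ok
      have step : ∀ j ∈ I22, j ≠ 1 → ∃ x : ↥Gam, x ∈ S ∧ conjS x (conjS (gp p2) I22) = conjS (gp p2) I22 ∧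
          x * (ge invBase hb) * x⁻¹ = j := by
        intro j hj hj1
        obtain ⟨n, hn, hbit, e⟩ := I22_idx j hj
        have h := List.all_eq_true.1 hall n (List.mem_range.2 hn)
        simp only [transTwoRow, hbit, Bool.not_true, Bool.false_or, Bool.or_eq_true, List.any_eq_true,
          Bool.and_eq_true, beq_iff_eq] at h
        rcases h with h | ⟨q, -, -, ⟨⟨hp, hk⟩, hr⟩, htw⟩
        · refine absurd (Subtype.ext ?_) hj1
          rw [← e, h, coe_one, ← permOf_idPacked]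
          exact congrArg permOf (by decide +kernel : el 0 = idPacked)
        · refine ⟨gp hp, mem_normalizer_I22_of (keepsO_smul (isPerm_of_pairOk hp) hk), ?_, Subtype.ext ?_⟩
          · rw [E2, hexOf, conjS_conjS]
            exact hexOf_eq r2 (by rw [oct_mul, oct_rep r2, gp_smul, hr])
          · rw [coe_mul, coe_mul, coe_inv, ← e]
            exact conj_eq_of_twine (isPerm_of_pairOk hp) (el_data hb).1 (el_data hn).1 htw
      obtain ⟨x, hx, hxK, ex⟩ := step i hi hi1
      obtain ⟨y, hy, hyK, ey⟩ := step j hj hj1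
      refine ⟨y * x⁻¹, mul_mem hy (inv_mem hx), ?_, ?_⟩
      · conv_lhs => rw [← hxK]
        rw [conjS_conjS, inv_mul_cancel_right, hyK]
      · rw [← ex, ← ey]; group
    · rw [E1, small_orbit r1 smallOrb_ok.2.2.1, smallOrb_ok.1]
    · rw [E2, small_orbit r2 smallOrb_ok.2.2.2, smallOrb_ok.2.1]
  small := by
    obtain ⟨-, eB, -, hB, -, hoB, -, hRB⟩ := roots_ok
    rw [beq_iff_eq] at eB
    obtain ⟨a, ha, haJ, ha2⟩ := exists_outer_root (i := 44) (by norm_num) hRB hoB
    refine ⟨a, haJ, ha2, (class_of_check clsB_ok hB (a := a) (by rw [eB]; exact ha) haJ).1, ?_⟩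
    obtain ⟨w0, w1, w2, s0, s1, s2, l0, l1, l2, n01, n02, n12⟩ := centB_ok
    have := cent_orbits (i := 44) (by norm_num) ha w0 w1 w2 s0 s1 s2 n01 n02 n12
      (by rw [l0, l1]; decide) (by rw [l0, l2]; decide) (by rw [l1, l2]; decide) (by rw [l0, l1, l2])
    rwa [l0, l1, l2] at this
  large := by
    obtain ⟨eA, -, hA, -, hoA, -, hRA, -⟩ := roots_ok
    rw [beq_iff_eq] at eA
    obtain ⟨a, ha, haJ, ha2⟩ := exists_outer_root (i := 19) (by norm_num) hRA hoA
    refine ⟨a, haJ, ha2, (class_of_check clsA_ok hA (a := a) (by rw [eA]; exact ha) haJ).1, ?_⟩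
    obtain ⟨w0, w1, w2, s0, s1, s2, l0, l1, l2, n01, n02, n12⟩ := centA_ok
    have := cent_orbits (i := 19) (by norm_num) ha w0 w1 w2 s0 s1 s2 n01 n02 n12
      (by rw [l0, l1]; decide) (by rw [l0, l2]; decide) (by rw [l1, l2]; decide) (by rw [l0, l1, l2])
    rwa [l0, l1, l2] at this

end CfsgLib.Spor.JFourType.Suborbit
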