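import Cfsg.Agent.Lib.Spor.JFourType.Suborbit.Main
import Cfsg.Agent.Lib.Spor.JFourType.Suborbit.Hex22
import Cfsg.Agent.Lib.Spor.JFourType.Order.OrbitSix
import Cfsg.Agent.Lib.Spor.JFourType.Order.Final
import Cfsg.Agent.Lib.Spor.JFourType.Eleven

/-!
# The action on the cosets of the normalizer of an elementary group of order `2 ^ 11`
-/

set_option autoImplicit false
set_option linter.style.haveILetI false

namespace CfsgLib.Spor.JFourType

open Subgroup Suborbit

universe u

/-- Outer involutions of the automorphism group with classes of equal size are conjugate. -/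
theorem outer_unique22 (a a' : ↥Gam) (ha : a ∉ J22) (ha2 : a * a = 1) (ha' : a' ∉ J22) (ha'2 : a' * a' = 1)
    (h : {x : ↥Gam | IsConj a x}.ncard = {x : ↥Gam | IsConj a' x}.ncard) : IsConj a a' := by
  obtain ⟨p, q, -, -, -, -, hp, hq, hout⟩ := outerTwo22
  have key : ∀ {r s : ↥Gam}, IsConj r s → {x : ↥Gam | IsConj s x}.ncard = {x : ↥Gam | IsConj r x}.ncard :=
    fun {r s} h => congrArg Set.ncard (Set.ext fun x => ⟨fun hx => h.trans hx, fun hx => h.symm.trans hx⟩)
  rcases hout a ha ha2 with h1 | h1 <;> rcases hout a' ha' ha'2 with h2 | h2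
  · exact h1.symm.trans h2
  · rw [key h1, key h2, hp, hq] at h; norm_num at h
  · rw [key h1, key h2, hp, hq] at h; norm_num at h
  · exact h1.symm.trans h2

namespace Ctx

variable {G : Type u} [Group G] [Finite G] {z : G} {P : Subgroup G} (c : Ctx J22 I22 R22 z P)
include c

/-- The suborbits on the conjugates of `W`. -/
theorem suborbits22 (hs : c.Split) : ∃ U : Fin 7 → Subgroup G, (∀ i, U i ∈ c.Pts) ∧
    (List.ofFn fun i => (orbS (normalizer (c.W : Set G)) (U i)).ncard) =
      [1, 15180, 28336, 3400320, 32643072, 54405120, 82575360] ∧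
    ∀ V ∈ c.Pts, ∃ i, V ∈ orbS (normalizer (c.W : Set G)) (U i) := by
  obtain ⟨T32, T40, T56, k32, k40, k56, d₁, d₂, d₃, hF⟩ :=
    c.exists_kinds hs hexFacts22 (c.fixer_orbits hs) outer_unique22
  obtain ⟨V₆, hV₆, hne, hcard, hsix⟩ := c.orbit_six hs
  have d : c.SubData T32 T40 T56 V₆ := ⟨hs, extra22, fiveSeven22, hexFacts22, k32, k40, k56, d₁, d₂, d₃, hF,
    hV₆, hne, hcard, hsix, by rw [c.card_eq_zclass, c.zclass_eq hs, c.card_H_local]; norm_num⟩
  exact d.seven_suborbits

end Ctx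

namespace Suborbit

variable {G : Type u} [Group G] [Finite G]

/-- The conjugate attached to a coset of the normalizer. -/
def cosetPt (V : Subgroup G) : G ⧸ normalizer (V : Set G) → Subgroup G :=
  Quotient.lift (fun x => conjS x V) fun x y h => by
    have hn : x⁻¹ * y ∈ normalizer (V : Set G) := QuotientGroup.leftRel_apply.1 h
    show conjS x V = conjS y V
    rw [show y = x * (x⁻¹ * y) by group, ← conjS_conjS, conjS_of_mem_normalizer hn]

omit [Finite G] in
theorem cosetPt_mk (V : Subgroup G) (x : G) : cosetPt V (x : G ⧸ normalizer (V : Set G)) = conjS x V := rfl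

theorem cosetPt_injective (V : Subgroup G) : Function.Injective (cosetPt V) := by
  intro p q h
  obtain ⟨x, rfl⟩ := QuotientGroup.mk_surjective p
  obtain ⟨y, rfl⟩ := QuotientGroup.mk_surjective q
  rw [cosetPt_mk, cosetPt_mk] at h
  refine QuotientGroup.eq.2 (mem_normalizer_iff_conjS.2 ?_)
  rw [← conjS_conjS, ← h, conjS_conjS, inv_mul_cancel, conjS_one]

omit [Finite G] in
theorem cosetPt_orbit (V : Subgroup G) (x : G) :
    cosetPt V '' MulAction.orbit ↥(normalizer (V : Set G)) (x : G ⧸ normalizer (V : Set G)) =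
      orbS (normalizer (V : Set G)) (conjS x V) := by
  ext L
  constructor
  · rintro ⟨_, ⟨n, rfl⟩, rfl⟩
    exact ⟨n, n.2, (conjS_conjS (n : G) x V)⟩
  · rintro ⟨n, hn, rfl⟩
    exact ⟨_, ⟨⟨n, hn⟩, rfl⟩, (conjS_conjS n x V).symm⟩

theorem orbS_conjS (g : G) (K U : Subgroup G) :
    orbS (normalizer (conjS g K : Set G)) (conjS g U) = conjS g '' orbS (normalizer (K : Set G)) U := by
  ext L
  constructor
  · rintro ⟨x, hx, rfl⟩
    refine ⟨_, ⟨g⁻¹ * x * g, mem_normalizer_conjS.1 hx, rfl⟩, ?_⟩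
    rw [conjS_conjS, conjS_conjS]; congr 1; group
  · rintro ⟨_, ⟨x, hx, rfl⟩, rfl⟩
    refine ⟨g * x * g⁻¹, mem_normalizer_conjS.2 (by rwa [show g⁻¹ * (g * x * g⁻¹) * g = x by group]), ?_⟩
    rw [conjS_conjS, conjS_conjS]; congr 1; group

end Suborbit

/-- The rank seven action. -/
theorem eleven_coset_action {G : Type u} [Group G] [Finite G] [IsSimpleGroup G] (hG : ¬ IsMulCommutative G) {z : G}
    {P : Subgroup G} (h : Cfsg.IsOfJankoFourTypeWith z P) {V : Subgroup G} (hV : Cfsg.IsElementaryAbelian 2 V)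
    (hcard : Nat.card ↥V = 2 ^ 11) :
    (normalizer (V : Set G)).index = 173067389 ∧ ∃ q : Fin 7 → G ⧸ normalizer (V : Set G),
      (∀ i j : Fin 7, i ≠ j →
        MulAction.orbit ↥(normalizer (V : Set G)) (q i) ≠ MulAction.orbit ↥(normalizer (V : Set G)) (q j)) ∧
      (∀ p : G ⧸ normalizer (V : Set G), ∃ i : Fin 7, p ∈ MulAction.orbit ↥(normalizer (V : Set G)) (q i)) ∧
      (List.ofFn fun i => (MulAction.orbit ↥(normalizer (V : Set G)) (q i)).ncard) =
        [1, 15180, 28336, 3400320, 32643072, 54405120, 82575360] := by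
  let c : Ctx J22 I22 R22 z P := ctx22 h
  have hs := c.split hG
  obtain ⟨g₀, hg₀⟩ := c.eleven_eq_map hV hcard
  have hV' : V = conjS g₀ c.W := hg₀
  subst hV'
  obtain ⟨U, hU, hlist, hcov⟩ := c.suborbits22 hs
  choose g hg using hU
  have hpt : ∀ i, conjS (g₀ * g i * g₀⁻¹) (conjS g₀ c.W) = conjS g₀ (U i) := fun i => by
    rw [← hg i, conjS_conjS, conjS_conjS, inv_mul_cancel_right]
  have hsize : ∀ i, (MulAction.orbit ↥(normalizer (conjS g₀ c.W : Set G))
      ((g₀ * g i * g₀⁻¹ : G) : G ⧸ normalizer (conjS g₀ c.W : Set G))).ncard =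
      (orbS (normalizer (c.W : Set G)) (U i)).ncard := fun i => by
    rw [← Set.ncard_image_of_injective _ (cosetPt_injective (conjS g₀ c.W)), cosetPt_orbit, hpt, orbS_conjS,
      Set.ncard_image_of_injective _ (conjS_injective g₀)]
  have hlist' : (List.ofFn fun i => (MulAction.orbit ↥(normalizer (conjS g₀ c.W : Set G))
      ((g₀ * g i * g₀⁻¹ : G) : G ⧸ normalizer (conjS g₀ c.W : Set G))).ncard) =
      [1, 15180, 28336, 3400320, 32643072, 54405120, 82575360] := by simp only [hsize]; exact hlist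
  refine ⟨?_, fun i => ((g₀ * g i * g₀⁻¹ : G) : G ⧸ normalizer (conjS g₀ c.W : Set G)), ?_, ?_, hlist'⟩
  · have h1 := (normalizer (conjS g₀ c.W : Set G)).index_mul_card
    rw [normalizer_conjS g₀ c.W, card_conjS, c.card_NW hs extra22, ← normalizer_conjS g₀ c.W,
      c.card_eq_zclass, c.zclass_eq hs, c.card_H_local] at h1
    omega
  · intro i j hij e
    have hnd : (List.ofFn fun i => (MulAction.orbit ↥(normalizer (conjS g₀ c.W : Set G))
      ((g₀ * g i * g₀⁻¹ : G) : G ⧸ normalizer (conjS g₀ c.W : Set G))).ncard).Nodup := by rw [hlist']; decide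
    exact hij (List.nodup_ofFn.1 hnd (congrArg Set.ncard e))
  · intro p
    obtain ⟨x, rfl⟩ := QuotientGroup.mk_surjective p
    obtain ⟨i, hi⟩ := hcov (conjS (g₀⁻¹ * x * g₀) c.W) ⟨_, rfl⟩
    refine ⟨i, ?_⟩
    have hmem : cosetPt (conjS g₀ c.W) (x : G ⧸ normalizer (conjS g₀ c.W : Set G)) ∈
        cosetPt (conjS g₀ c.W) '' MulAction.orbit ↥(normalizer (conjS g₀ c.W : Set G))
          ((g₀ * g i * g₀⁻¹ : G) : G ⧸ normalizer (conjS g₀ c.W : Set G)) := by
      rw [cosetPt_mk, cosetPt_orbit, hpt, orbS_conjS]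
      exact ⟨_, hi, by rw [conjS_conjS, conjS_conjS]; congr 1; group⟩
    obtain ⟨p', hp', e⟩ := hmem
    rwa [cosetPt_injective _ e] at hp'

end CfsgLib.Spor.JFourType
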