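import Cfsg.Agent.Lib.Spor.JFourType.Suborbit.HexData

/-!
# The hexads and their orbits: checks
-/

set_option autoImplicit false
set_option maxRecDepth 20000

namespace CfsgLib.Spor.JFourType.Suborbit

open Cfsg

/-- The witness fixes the pair, satisfies `ok` and carries the root to the listed octad. -/
def witRow (ok : ℕ → Bool) (root : ℕ) (q : ℕ × ℕ) : Bool :=
  pairOk q.2 && ok q.2 && (permMask q.2 root == q.1)

/-- The witness commutes with the listed element. -/
def commWith (i : ℕ) (c : ℕ) : Bool := commCodes c (el i)

/-- All the octads through the pair. -/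
def hexList : List ℕ := (mO :: nearOne.map Prod.fst) ++ nearTwo.map Prod.fst

/-- The invariant of an octad for the element. -/
def octInv (i k : ℕ) : ℕ := 32 * pop 24 (k &&& fixEl i) + pop 24 (k &&& permMask (el i) k)
where
  /-- The fixed points of the element. -/
  fixEl (i : ℕ) : ℕ := maskFn (fun q => permFn (el i) q == q) 24

/-- The masks of a list are those of the listed octads with the value of the root. -/
def sameInv (f : ℕ → ℕ) (root : ℕ) (L : List (ℕ × ℕ)) : Bool :=
  (hexList.filter fun k => f k == f root).all (fun k => (L.map Prod.fst).contains k) &&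
    hexList.contains root && decide (L.map Prod.fst).Nodup && (L.map Prod.fst).all (fun k => hexList.contains k)

/-- The invariant of an octad for the first one. -/
def nearInv (k : ℕ) : ℕ := pop 24 (k &&& mO)

theorem list_ok : hexList.Nodup ∧ hexList.length = 77 ∧ hexList.all (fun k => decide (k < 2 ^ 24)) = true := by
  decide +kernel

theorem roots_pair : pairOk hexG1 = true ∧ permMask hexG1 mO = hexR1 ∧ pairOk hexG2 = true ∧
    permMask hexG2 mO = hexR2 ∧ nearInv hexR1 = 4 ∧ nearInv hexR2 = 2 := by decide +kernel

theorem nearOne_ok : nearOne.all (witRow keepsO hexR1) = true ∧ nearOne.length = 60 ∧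
    sameInv nearInv hexR1 nearOne = true := by decide +kernel

theorem nearTwo_ok : nearTwo.all (witRow keepsO hexR2) = true ∧ nearTwo.length = 16 ∧
    sameInv nearInv hexR2 nearTwo = true := by decide +kernel

/-- The orbit of an octad under the first subgroup. -/
def smallOrb (root : ℕ) : List ℕ := (((List.range 256).filter fun i => mI.testBit i).map fun i =>
  permMask (el i) root).eraseDups

theorem smallOrb_ok : (smallOrb hexR1).length = 4 ∧ (smallOrb hexR2).length = 16 ∧
    (smallOrb hexR1).Nodup ∧ (smallOrb hexR2).Nodup := by decide +kernel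

/-- The element carries the base involution to the listed one and fixes both octads. -/
def transTwoRow (i : ℕ) : Bool :=
  !(mI.testBit i) || (i == 0) || invTrans.any fun q =>
    q.1 == i && (pairOk q.2 && keepsO q.2 && (permMask q.2 hexR2 == hexR2) && twine q.2 (el invBase) (el i))

theorem transTwo_ok : invBase < 256 ∧ invBase ≠ 0 ∧ mI.testBit invBase = true ∧
    (List.range 256).all transTwoRow = true := by decide +kernel

theorem centA_ok : centAOrb0.all (witRow (commWith 19) centARoot0) = true ∧
    centAOrb1.all (witRow (commWith 19) centARoot1) = true ∧ centAOrb2.all (witRow (commWith 19) centARoot2) = true ∧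
    sameInv (octInv 19) centARoot0 centAOrb0 = true ∧ sameInv (octInv 19) centARoot1 centAOrb1 = true ∧
    sameInv (octInv 19) centARoot2 centAOrb2 = true ∧
    centAOrb0.length = 5 ∧ centAOrb1.length = 32 ∧ centAOrb2.length = 40 ∧
    octInv 19 centARoot0 ≠ octInv 19 centARoot1 ∧ octInv 19 centARoot0 ≠ octInv 19 centARoot2 ∧
    octInv 19 centARoot1 ≠ octInv 19 centARoot2 := by decide +kernel

theorem centB_ok : centBOrb0.all (witRow (commWith 44) centBRoot0) = true ∧
    centBOrb1.all (witRow (commWith 44) centBRoot1) = true ∧ centBOrb2.all (witRow (commWith 44) centBRoot2) = true ∧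
    sameInv (octInv 44) centBRoot0 centBOrb0 = true ∧ sameInv (octInv 44) centBRoot1 centBOrb1 = true ∧
    sameInv (octInv 44) centBRoot2 centBOrb2 = true ∧
    centBOrb0.length = 7 ∧ centBOrb1.length = 14 ∧ centBOrb2.length = 56 ∧
    octInv 44 centBRoot0 ≠ octInv 44 centBRoot1 ∧ octInv 44 centBRoot0 ≠ octInv 44 centBRoot2 ∧
    octInv 44 centBRoot1 ≠ octInv 44 centBRoot2 := by decide +kernel

end CfsgLib.Spor.JFourType.Suborbit
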