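import Cfsg.Agent.Lib.Spor.JFourType.Suborbit.Middle
import Cfsg.Agent.Lib.Spor.JFourType.Suborbit.Arith

/-!
# The seven suborbits

The two orbits meeting `W` and the orbit fixed by elements of order 23 are given; counting modulo five fixes the
orbit of the kind of 18432, and the lengths left force the other three.
-/

set_option autoImplicit false
set_option linter.style.haveILetI false

namespace CfsgLib.Spor.JFourType

open Subgroup

namespace Suborbit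

universe u

variable {G : Type u} [Group G] [Finite G]

/-- A set closed under conjugation by `N`. -/
def Closed (N : Subgroup G) (S : Set (Subgroup G)) : Prop := ∀ g ∈ N, ∀ V ∈ S, conjS g V ∈ S

omit [Finite G] in
theorem Closed.orb_sub {N : Subgroup G} {S : Set (Subgroup G)} (h : Closed N S) {V : Subgroup G} (hV : V ∈ S) :
    orbS N V ⊆ S := by
  rintro _ ⟨g, hg, rfl⟩; exact h g hg V hV

/-- Removing an orbit. -/
theorem Closed.sdiff_orb {N : Subgroup G} {S : Set (Subgroup G)} (h : Closed N S) {V : Subgroup G} (hV : V ∈ S) :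
    Closed N (S \ orbS N V) ∧ (S \ orbS N V).ncard + (orbS N V).ncard = S.ncard := by
  refine ⟨fun g hg U hU => ⟨h g hg U hU.1, fun hm => hU.2 ?_⟩,
    Set.ncard_sdiff_add_ncard_of_subset (h.orb_sub hV) (Set.toFinite _)⟩
  obtain ⟨m, hm', e⟩ := hm
  refine ⟨g⁻¹ * m, mul_mem (inv_mem hg) hm', ?_⟩
  rw [← conjS_conjS, e, conjS_conjS, inv_mul_cancel, conjS_one]

/-- A number dividing all orbit lengths divides the size. -/
theorem Closed.dvd_ncard {N : Subgroup G} {d : ℕ} : ∀ {S : Set (Subgroup G)}, Closed N S →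
    (∀ V ∈ S, d ∣ (orbS N V).ncard) → d ∣ S.ncard := by
  intro S
  induction hn : S.ncard using Nat.strong_induction_on generalizing S with
  | _ n ih =>
    intro h hd
    rcases S.eq_empty_or_nonempty with rfl | ⟨V, hV⟩
    · rw [Set.ncard_empty] at hn; rw [← hn]; exact dvd_zero d
    · obtain ⟨h', e⟩ := h.sdiff_orb hV
      have hpos : 0 < (orbS N V).ncard := (Set.ncard_pos (Set.toFinite _)).2 ⟨V, orbS_self _ _⟩
      rw [← hn, ← e]
      exact dvd_add (ih _ (by omega) rfl h' fun U hU => hd U hU.1) (hd V hV)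

theorem mem_sdiff_of_ne {N : Subgroup G} {S : Set (Subgroup G)} {U V : Subgroup G} (hU : U ∈ S)
    (h : (orbS N U).ncard ≠ (orbS N V).ncard) : U ∈ S \ orbS N V :=
  ⟨hU, fun hm => h (by rw [orbS_eq_of_mem hm])⟩

end Suborbit

namespace Ctx

open Suborbit

universe u

variable {G : Type u} [Group G] [Finite G] {A : Type} [Group A] {J I R : Subgroup A}
  {z : G} {P : Subgroup G} (c : Ctx J I R z P)
include c

/-- What the suborbit count rests on. -/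
structure SubData (T32 T40 T56 : Set (Subgroup G)) (V₆ : Subgroup G) : Prop where
  split : c.Split
  extra : Extra J I R
  five : FiveSeven J I R
  hex : HexFacts J I
  k32 : c.Kind T32 18432
  k40 : c.Kind T40 23040
  k56 : c.Kind T56 5760
  d₁ : Disjoint T32 T40
  d₂ : Disjoint T32 T56
  d₃ : Disjoint T40 T56
  cFix : c.Fix₀.ncard = 52272
  V₆_mem : V₆ ∈ c.Pts
  V₆_ne : V₆ ≠ c.W
  card_six : (orbS (normalizer (c.W : Set G)) V₆).ncard = 82575360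
  six : ∀ u ∈ normalizer (c.W : Set G), orderOf u = 23 → ∀ U ∈ c.Pts, U ≠ c.W → u ∈ normalizer (U : Set G) →
    U ∈ orbS (normalizer (c.W : Set G)) V₆
  order : Nat.card G = 86775571046077562880

namespace SubData

variable {c} {T32 T40 T56 : Set (Subgroup G)} {V₆ : Subgroup G} (d : c.SubData T32 T40 T56 V₆)

/-- The normalizer of `W`. -/
local notation "NW" => normalizer (c.W : Set G)

include d

theorem closed_Pts : Closed NW c.Pts := fun g _ _ hV => c.Pts_conj hV g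

theorem stab_mul (U : Subgroup G) :
    Nat.card ↥(NW ⊓ normalizer (U : Set G) : Subgroup G) * (orbS NW U).ncard = 501397585920 := by
  rw [mul_comm, ncard_orbS_mul, c.card_NW d.split d.extra]

theorem ncard_Pts : c.Pts.ncard = 173067389 := by
  have h := ncard_orbS_mul (⊤ : Subgroup G) c.W
  have e : orbS (⊤ : Subgroup G) c.W = c.Pts :=
    Set.ext fun V => ⟨fun ⟨g, _, e⟩ => ⟨g, e⟩, fun ⟨g, e⟩ => ⟨g, mem_top g, e⟩⟩
  rw [e, top_inf_eq, c.card_NW d.split d.extra, Subgroup.card_top, d.order] at h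
  omega

theorem orb_W : orbS NW c.W = {c.W} := by
  ext V
  exact ⟨fun ⟨g, hg, e⟩ => e.symm.trans (conjS_of_mem_normalizer hg), fun h => h ▸ orbS_self _ _⟩

theorem ne_W {U : Subgroup G} (h : c.W ⊓ U = ⊥) : U ≠ c.W := fun e => c.z_ne (by
  have hz : z ∈ c.W ⊓ U := mem_inf.2 ⟨c.z_mem_W', e.symm ▸ c.z_mem_W'⟩
  rwa [h, mem_bot] at hz)

theorem bot_of_mem_orb {U V : Subgroup G} (h : c.W ⊓ U = ⊥) (hV : V ∈ orbS NW U) : c.W ⊓ V = ⊥ := by
  obtain ⟨n, hn, rfl⟩ := hV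
  rw [eq_bot_iff_forall]
  intro x hx
  have h' : n⁻¹ * x * n ∈ c.W ⊓ U := mem_inf.2 ⟨(mem_normalizer_iff''.1 hn x).1 hx.1, mem_conjS.1 hx.2⟩
  rw [h, mem_bot] at h'
  calc x = n * (n⁻¹ * x * n) * n⁻¹ := by group
    _ = 1 := by rw [h']; group

theorem kind_meets {T : Set (Subgroup G)} {m : ℕ} (hT : c.Kind T m) (hm : 3600 < m) {V : Subgroup G}
    (hV : V ∈ T) : c.W ⊓ V = ⊥ := by
  by_contra hb
  obtain ⟨U₁, U₂, hU₁, hU₂, -, -, o1, o2, y1, y2, -, -, hcov⟩ := c.share_orbits d.split d.extra d.hex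
  obtain ⟨hVP, -, hzV⟩ := hT.sub hV
  have key : ∀ {U : Subgroup G}, U ∈ c.Pts → V ∈ orbS NW U → m ≤ (orbS NW U ∩ c.Fix₀).ncard := by
    intro U _ hm'
    rw [← hT.card]
    exact Set.ncard_le_ncard (fun X hX => ⟨(hT.inter.resolve_right
      (Set.not_disjoint_iff.2 ⟨V, hm', hV⟩)) hX, hT.sub hX⟩) (Set.toFinite _)
  rcases hcov V hVP (fun e => hzV (e.symm ▸ c.z_mem_W')) hb with h | h
  · have := key hU₁ h
    have hc := c.count_Yset d.split hU₁
    rw [o1, y1] at hc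
    omega
  · have := key hU₂ h
    have hc := c.count_Yset d.split hU₂
    rw [o2, y2] at hc
    omega

theorem fix_cover {V : Subgroup G} (hV : V ∈ c.Fix₀) (hb : c.W ⊓ V = ⊥) : V ∈ T32 ∨ V ∈ T40 ∨ V ∈ T56 := by
  by_contra hcon
  obtain ⟨U₁, U₂, hU₁, hU₂, -, -, o1, o2, y1, y2, b1, b2, -⟩ := c.share_orbits d.split d.extra d.hex
  set B := T32 ∪ T40 ∪ T56 with hB
  have hBc : B.ncard = 47232 := by
    rw [hB, Set.ncard_union_eq (Set.disjoint_union_left.2 ⟨d.d₂, d.d₃⟩), Set.ncard_union_eq d.d₁, d.k32.card,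
      d.k40.card, d.k56.card]
  have hBb : ∀ X ∈ B, c.W ⊓ X = ⊥ := by
    rintro X ((h | h) | h)
    exacts [d.kind_meets d.k32 (by norm_num) h, d.kind_meets d.k40 (by norm_num) h, d.kind_meets d.k56 (by norm_num) h]
  set S := (orbS NW U₁ ∪ orbS NW U₂) ∩ c.Fix₀ with hS
  have hSc : S.ncard = 5040 := by
    have h1 := c.count_Yset d.split hU₁
    have h2 := c.count_Yset d.split hU₂
    rw [o1, y1] at h1
    rw [o2, y2] at h2
    rw [hS, Set.union_inter_distrib_right, Set.ncard_union_eq ((Set.disjoint_left.2 fun X h h' => ?_ :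
      Disjoint (orbS NW U₁) (orbS NW U₂)).mono Set.inter_subset_left Set.inter_subset_left)]
    · omega
    · rw [← orbS_eq_of_mem h, orbS_eq_of_mem h', o2] at o1
      norm_num at o1
  have hSb : ∀ X ∈ S, c.W ⊓ X ≠ ⊥ := by
    rintro X ⟨(h | h), -⟩ hX
    · exact b1 (d.bot_of_mem_orb hX (by rw [orbS_eq_of_mem h]; exact orbS_self _ _))
    · exact b2 (d.bot_of_mem_orb hX (by rw [orbS_eq_of_mem h]; exact orbS_self _ _))
  have hsub : insert V (B ∪ S) ⊆ c.Fix₀ := by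
    rintro X (rfl | ((h | h) | h) | h)
    exacts [hV, d.k32.sub h, d.k40.sub h, d.k56.sub h, h.2]
  have h := Set.ncard_le_ncard hsub (Set.toFinite _)
  rw [Set.ncard_insert_of_notMem (fun h => h.elim (fun h => hcon (by rcases h with (h | h) | h <;> simp [h])) fun h => hSb V h hb),
    Set.ncard_union_eq (Set.disjoint_left.2 fun X h h' => hSb X h' (hBb X h)), hBc, hSc, d.cFix] at h
  omega

theorem not_seven {U : Subgroup G} (hU : U ∈ c.Pts) (hb : c.W ⊓ U = ⊥) :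
    ¬ 7 ∣ Nat.card ↥(NW ⊓ normalizer (U : Set G) : Subgroup G) := fun h => by
  haveI : Fact (Nat.Prime 7) := ⟨by norm_num⟩
  obtain ⟨y, hy⟩ := exists_prime_orderOf_dvd_card' (G := ↥(NW ⊓ normalizer (U : Set G) : Subgroup G)) 7 h
  rw [← Subgroup.orderOf_coe] at hy
  exact c.seven_meets d.split d.extra d.five d.hex y.2.1 hy hU (d.ne_W hb) y.2.2 hb

theorem five_kind {U : Subgroup G} (hU : U ∈ c.Pts) (hb : c.W ⊓ U = ⊥)
    (h5 : 5 ∣ Nat.card ↥(NW ⊓ normalizer (U : Set G) : Subgroup G)) : T32 ⊆ orbS NW U := by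
  haveI : Fact (Nat.Prime 5) := ⟨by norm_num⟩
  obtain ⟨y, hy⟩ := exists_prime_orderOf_dvd_card' (G := ↥(NW ⊓ normalizer (U : Set G) : Subgroup G)) 5 h5
  rw [← Subgroup.orderOf_coe] at hy
  obtain ⟨w, hw, hwU, hwy⟩ := c.five_Zw d.split d.extra d.five y.2.1 hy hU y.2.2
  obtain ⟨g, hg, rfl⟩ := (c.mem_Zw_iff d.split).1 hw
  set V := conjS g⁻¹ U with hV
  have hVo : V ∈ orbS NW U := c.conjS_orbS (inv_mem hg) (orbS_self _ _)
  have hVb := d.bot_of_mem_orb hb hVo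
  have hVF : V ∈ c.Fix₀ := by
    refine ⟨c.Pts_conj hU _, by rw [hV, mem_normalizer_conjS, inv_inv]; exact hwU, fun hz => c.z_ne ?_⟩
    have h : z ∈ c.W ⊓ V := mem_inf.2 ⟨c.z_mem_W', hz⟩
    rwa [hVb, mem_bot] at h
  set S := NW ⊓ c.H with hS
  have hy' : g⁻¹ * (y : G) * g ∈ S ⊓ normalizer (V : Set G) := by
    refine mem_inf.2 ⟨mem_inf.2 ⟨mul_mem (mul_mem (inv_mem hg) y.2.1) hg, mem_centralizer_singleton_iff.2 ?_⟩, ?_⟩
    · calc g⁻¹ * (y : G) * g * z = g⁻¹ * ((y : G) * (g * z * g⁻¹)) * g := by group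
        _ = g⁻¹ * (g * z * g⁻¹ * (y : G)) * g := by rw [hwy]
        _ = _ := by group
    · rw [hV, mem_normalizer_conjS, show g⁻¹⁻¹ * (g⁻¹ * (y : G) * g) * g⁻¹ = (y : G) by group]
      exact y.2.2
  have h5' : 5 ∣ Nat.card ↥(S ⊓ normalizer (V : Set G) : Subgroup G) := by
    have h := Subgroup.orderOf_dvd_natCard _ hy'
    rwa [orderOf_conj', hy] at h
  have hst : ∀ {T : Set (Subgroup G)} {m : ℕ}, c.Kind T m → V ∈ T →
      m * Nat.card ↥(S ⊓ normalizer (V : Set G) : Subgroup G) = 283115520 := by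
    intro T m hT hVT
    have e : orbS S V = T := Set.Subset.antisymm
      (fun X ⟨k, hk, e⟩ => e ▸ hT.inv k hk V hVT) fun X hX => hT.trans V hVT X hX
    rw [← hT.card, ← e, ncard_orbS_mul, hS, c.card_NH_W d.split d.extra]
  rcases d.fix_cover hVF hVb with h | h | h
  · exact d.k32.inter.resolve_right (Set.not_disjoint_iff.2 ⟨V, hVo, h⟩)
  · have := hst d.k40 h; omega
  · have := hst d.k56 h; omega

theorem exists_kind {U : Subgroup G} (hU : U ∈ c.Pts) (hb : c.W ⊓ U = ⊥) (hn : (c.Yset U).ncard ≠ 0) :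
    T32 ⊆ orbS NW U ∨ T40 ⊆ orbS NW U ∨ T56 ⊆ orbS NW U := by
  have h := c.count_Yset d.split hU
  have hpos : 0 < (orbS NW U).ncard := (Set.ncard_pos (Set.toFinite _)).2 ⟨U, orbS_self _ _⟩
  obtain ⟨V, hVo, hVF⟩ : (orbS NW U ∩ c.Fix₀).Nonempty := Set.nonempty_of_ncard_ne_zero fun e => by
    rw [e, mul_zero, mul_eq_zero] at h
    omega
  rcases d.fix_cover hVF (d.bot_of_mem_orb hb hVo) with h' | h' | h'
  exacts [Or.inl (d.k32.inter.resolve_right (Set.not_disjoint_iff.2 ⟨V, hVo, h'⟩)),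
    Or.inr (Or.inl (d.k40.inter.resolve_right (Set.not_disjoint_iff.2 ⟨V, hVo, h'⟩))),
    Or.inr (Or.inr (d.k56.inter.resolve_right (Set.not_disjoint_iff.2 ⟨V, hVo, h'⟩)))]

/-- The possible lengths of the orbits of a pure kind. -/
theorem middle {U : Subgroup G} (hU : U ∈ c.Pts) (hb : c.W ⊓ U = ⊥)
    (hpure : ∀ x ∈ c.Tset, x ∉ normalizer (U : Set G)) (hn : (c.Yset U).ncard ≠ 0) :
    (T32 ⊆ orbS NW U ∧ ¬ T56 ⊆ orbS NW U ∧ ¬ T40 ⊆ orbS NW U ∧
      ((orbS NW U).ncard = 32643072 ∧ (c.Yset U).ncard = 1 ∨ (orbS NW U).ncard = 10881024 ∧ (c.Yset U).ncard = 3)) ∨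
    (T32 ⊆ orbS NW U ∧ (orbS NW U).ncard = 680064) ∨
    (¬ T32 ⊆ orbS NW U ∧ T40 ⊆ orbS NW U ∧ ¬ T56 ⊆ orbS NW U ∧ (c.Yset U).ncard ≤ 3 ∧
      ((orbS NW U).ncard = 40803840 ∨ (orbS NW U).ncard = 13601280)) ∨
    (¬ T32 ⊆ orbS NW U ∧ ¬ T40 ⊆ orbS NW U ∧ T56 ⊆ orbS NW U ∧ (c.Yset U).ncard ≤ 3 ∧
      ((orbS NW U).ncard = 10200960 ∨ (orbS NW U).ncard = 3400320)) ∨
    (¬ T32 ⊆ orbS NW U ∧ T40 ⊆ orbS NW U ∧ T56 ⊆ orbS NW U ∧ (c.Yset U).ncard = 15 ∧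
      (orbS NW U).ncard = 3400320) := by
  classical
  obtain ⟨a, ha, hna, -⟩ := c.pure_count hb hpure
  set O := orbS NW U with hO
  have hpart : ∀ {T : Set (Subgroup G)} {m : ℕ}, c.Kind T m →
      (O ∩ T).ncard = if decide (T ⊆ O) = true then m else 0 := by
    intro T m hT
    by_cases h : T ⊆ O
    · rw [Set.inter_eq_right.2 h, hT.card, decide_eq_true h, if_pos rfl]
    · rw [Set.disjoint_iff_inter_eq_empty.1 (hT.inter.resolve_left h), Set.ncard_empty, decide_eq_false h,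
        if_neg (by simp)]
  have hFix : (O ∩ c.Fix₀).ncard = (O ∩ T32).ncard + (O ∩ T40).ncard + (O ∩ T56).ncard := by
    rw [show O ∩ c.Fix₀ = (O ∩ T32 ∪ O ∩ T40) ∪ O ∩ T56 from Set.ext fun X => ⟨fun hX => by
        rcases d.fix_cover hX.2 (d.bot_of_mem_orb hb hX.1) with h | h | h
        exacts [Or.inl (Or.inl ⟨hX.1, h⟩), Or.inl (Or.inr ⟨hX.1, h⟩), Or.inr ⟨hX.1, h⟩],
      by rintro ((h | h) | h)
         exacts [⟨h.1, d.k32.sub h.2⟩, ⟨h.1, d.k40.sub h.2⟩, ⟨h.1, d.k56.sub h.2⟩]⟩,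
      Set.ncard_union_eq (Set.disjoint_union_left.2 ⟨d.d₂.mono Set.inter_subset_right Set.inter_subset_right,
        d.d₃.mono Set.inter_subset_right Set.inter_subset_right⟩),
      Set.ncard_union_eq (d.d₁.mono Set.inter_subset_right Set.inter_subset_right)]
  have hk : ∀ {T : Set (Subgroup G)} {m : ℕ}, c.Kind T m →
      O.ncard * (c.kindSet T U).ncard = if decide (T ⊆ O) = true then 1771 * m else 0 := by
    intro T m hT
    rw [hO, c.count_kind d.split hT.inv U, ← hO, hpart hT]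
    split_ifs <;> simp
  have h := middle_arith (d.stab_mul U) (by rw [c.count_Yset d.split hU, ← hO, hFix, hpart d.k32, hpart d.k40, hpart d.k56])
    (hk d.k32) (hk d.k40) (hk d.k56) ha hna hn (d.not_seven hU hb) (fun h5 => decide_eq_true (d.five_kind hU hb h5))
  simp only [decide_eq_true_eq, decide_eq_false_iff_not] at h
  rcases h with ⟨h1, h2, h3, h4⟩ | ⟨h1, -, -, h4, -⟩ | ⟨h1, h2, h3, h4⟩ | ⟨h1, h2, h3, h4⟩ | ⟨h1, h2, h3, h4, h5⟩
  · exact Or.inl ⟨h1, h3, h2, h4⟩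
  · exact Or.inr (Or.inl ⟨h1, h4⟩)
  · refine Or.inr (Or.inr (Or.inl ⟨h1, h2, h3, ?_⟩))
    rcases h4 with ⟨e, e'⟩ | ⟨e, e'⟩ <;> refine ⟨by omega, ?_⟩ <;> simp [hO, e]
  · refine Or.inr (Or.inr (Or.inr (Or.inl ⟨h1, h2, h3, ?_⟩)))
    rcases h4 with ⟨e, e'⟩ | ⟨e, e'⟩ <;> refine ⟨by omega, ?_⟩ <;> simp [hO, e]
  · exact Or.inr (Or.inr (Or.inr (Or.inr ⟨h1, h2, h3, h5, h4⟩)))

/-- An orbit containing a kind, seen from one of its members. -/
theorem kind_orbit {T : Set (Subgroup G)} {m : ℕ} (hT : c.Kind T m) (hm : 3600 < m) :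
    ∃ V ∈ c.Pts, c.W ⊓ V = ⊥ ∧ T ⊆ orbS NW V ∧ (c.Yset V).ncard ≠ 0 ∧ (orbS NW V).ncard ≤ 1771 * m := by
  obtain ⟨V, hV⟩ : T.Nonempty := Set.nonempty_of_ncard_ne_zero (by rw [hT.card]; omega)
  have hsub : T ⊆ orbS NW V := hT.inter.resolve_right (Set.not_disjoint_iff.2 ⟨V, orbS_self _ _, hV⟩)
  have hVP := (hT.sub hV).1
  refine ⟨V, hVP, d.kind_meets hT hm hV, hsub, fun e => ?_, ?_⟩
  · have h := c.count_Yset d.split hVP
    rw [e, mul_zero] at h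
    have := (Set.ncard_pos (Set.toFinite _)).2 (show (orbS NW V ∩ c.Fix₀).Nonempty from
      ⟨V, orbS_self _ _, hT.sub hV⟩)
    omega
  · have h := hT.count c d.split hsub
    refine Nat.le_of_dvd (by omega) ⟨_, h.symm⟩

/-- The orbit of the first kind and the absence of other involutions of `W`. -/
theorem kind32 : ∃ V ∈ c.Pts, c.W ⊓ V = ⊥ ∧ T32 ⊆ orbS NW V ∧ (orbS NW V).ncard = 32643072 ∧
    ¬ T40 ⊆ orbS NW V ∧ ¬ T56 ⊆ orbS NW V ∧
    ∀ U ∈ c.Pts, c.W ⊓ U = ⊥ → ∀ x ∈ c.Tset, x ∉ normalizer (U : Set G) := by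
  obtain ⟨U₁, U₂, hU₁, hU₂, hn₁, hn₂, o1, o2, -, -, b1, b2, hcov⟩ := c.share_orbits d.split d.extra d.hex
  obtain ⟨V, hVP, hVb, hVT, hVn, hVle⟩ := d.kind_orbit d.k32 (by norm_num)
  -- count modulo five
  have hW1 : (orbS NW c.W).ncard = 1 := by rw [d.orb_W, Set.ncard_singleton]
  obtain ⟨c1, e1⟩ := d.closed_Pts.sdiff_orb c.W_mem_Pts
  have m1 : U₁ ∈ c.Pts \ orbS NW c.W := mem_sdiff_of_ne hU₁ (by omega)
  obtain ⟨c2, e2⟩ := c1.sdiff_orb m1
  have m2 : U₂ ∈ (c.Pts \ orbS NW c.W) \ orbS NW U₁ := mem_sdiff_of_ne (mem_sdiff_of_ne hU₂ (by omega)) (by omega)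
  obtain ⟨c3, e3⟩ := c2.sdiff_orb m2
  have h6 := d.card_six
  have m6 : V₆ ∈ ((c.Pts \ orbS NW c.W) \ orbS NW U₁) \ orbS NW U₂ :=
    mem_sdiff_of_ne (mem_sdiff_of_ne (mem_sdiff_of_ne d.V₆_mem (by omega)) (by omega)) (by omega)
  obtain ⟨c4, e4⟩ := c3.sdiff_orb m6
  have mV : V ∈ (((c.Pts \ orbS NW c.W) \ orbS NW U₁) \ orbS NW U₂) \ orbS NW V₆ := by
    refine mem_sdiff_of_ne ⟨⟨⟨hVP, fun h => d.ne_W hVb (by rwa [d.orb_W] at h)⟩, fun h => b1 ?_⟩, fun h => b2 ?_⟩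
      (by omega)
    · exact d.bot_of_mem_orb hVb (by rw [orbS_eq_of_mem h]; exact orbS_self _ _)
    · exact d.bot_of_mem_orb hVb (by rw [orbS_eq_of_mem h]; exact orbS_self _ _)
  obtain ⟨c5, e5⟩ := c4.sdiff_orb mV
  have hdvd : 5 ∣ (((((c.Pts \ orbS NW c.W) \ orbS NW U₁) \ orbS NW U₂) \ orbS NW V₆) \ orbS NW V).ncard := by
    refine c5.dvd_ncard ?_
    rintro U ⟨⟨⟨⟨⟨hUP, hUW⟩, hU1⟩, hU2⟩, -⟩, hUV⟩
    have hUb : c.W ⊓ U = ⊥ := by
      by_contra hb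
      exact (hcov U hUP (fun e => hUW (e ▸ orbS_self _ _)) hb).elim hU1 hU2
    by_contra h5
    have hmul := d.stab_mul U
    have h5s : 5 ∣ Nat.card ↥(NW ⊓ normalizer (U : Set G) : Subgroup G) :=
      ((show Nat.Prime 5 by norm_num).dvd_mul.1 (by rw [hmul]; norm_num)).resolve_right h5
    obtain ⟨X, hX⟩ : T32.Nonempty := Set.nonempty_of_ncard_ne_zero (by rw [d.k32.card]; norm_num)
    refine hUV ?_
    rw [← orbS_eq_of_mem (hVT hX), orbS_eq_of_mem (d.five_kind hUP hUb h5s hX)]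
    exact orbS_self _ _
  have hP := d.ncard_Pts
  have hmod : (orbS NW V).ncard % 5 = 2 := by omega
  -- the first orbit seen from a pure conjugate
  have key : ∀ U ∈ c.Pts, c.W ⊓ U = ⊥ → (∀ x ∈ c.Tset, x ∉ normalizer (U : Set G)) → T32 ⊆ orbS NW U →
      (c.Yset U).ncard ≠ 0 →
      (orbS NW U).ncard = 32643072 ∧ (c.Yset U).ncard = 1 ∧ ¬ T40 ⊆ orbS NW U ∧ ¬ T56 ⊆ orbS NW U := by
    intro U hUP hUb hp hsub hn
    obtain ⟨X, hX⟩ : T32.Nonempty := Set.nonempty_of_ncard_ne_zero (by rw [d.k32.card]; norm_num)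
    have e : orbS NW U = orbS NW V := by rw [← orbS_eq_of_mem (hsub hX), orbS_eq_of_mem (hVT hX)]
    rcases d.middle hUP hUb hp hn with h | h | h | h | h
    · obtain ⟨-, h56, h40, hc | hc⟩ := h
      · exact ⟨hc.1, hc.2, h40, h56⟩
      · rw [e] at hc; omega
    · rw [e] at h; omega
    all_goals exact absurd hsub h.1
  have hpure : ∀ U ∈ c.Pts, c.W ⊓ U = ⊥ → ∀ x ∈ c.Tset, x ∉ normalizer (U : Set G) := by
    intro U hUP hUb x hx hxU
    obtain ⟨U', hU', hb', hp', h63⟩ := c.inverse_pure d.split d.extra hUP hUb hx hxU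
    rcases d.middle hU' hb' hp' (by omega) with h | h | h | h | h
    · have := key U' hU' hb' hp' h.1 (by omega); omega
    · have := key U' hU' hb' hp' h.1 (by omega); omega
    · omega
    · omega
    · omega
  obtain ⟨hL, -, h40, h56⟩ := key V hVP hVb (hpure V hVP hVb) hVT hVn
  exact ⟨V, hVP, hVb, hVT, hL, h40, h56, hpure⟩

/-- The lengths possible outside the kinds. -/
theorem rest_length (hpure : ∀ U ∈ c.Pts, c.W ⊓ U = ⊥ → ∀ x ∈ c.Tset, x ∉ normalizer (U : Set G)) {U : Subgroup G}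
    (hU : U ∈ c.Pts) (hb : c.W ⊓ U = ⊥) (h6 : U ∉ orbS NW V₆) (h32 : ¬ T32 ⊆ orbS NW U)
    (h40 : ¬ T40 ⊆ orbS NW U) (h56 : ¬ T56 ⊆ orbS NW U) :
    54405120 ≤ (orbS NW U).ncard ∨ (orbS NW U).ncard = 44513280 := by
  classical
  obtain ⟨a, -, hna, hAc⟩ := c.pure_count hb (hpure U hU hb)
  have hn : (c.Yset U).ncard = 0 := by
    by_contra hn
    rcases d.exists_kind hU hb hn with h | h | h
    exacts [h32 h, h40 h, h56 h]
  have hA : c.W ⊓ normalizer (U : Set G) = ⊥ := by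
    refine eq_bot_of_card_eq _ ?_
    rw [hAc, ← hna, hn]
  set S := NW ⊓ normalizer (U : Set G) with hS
  have hSW : c.W ⊓ S = ⊥ := le_bot_iff.1 (hA ▸ inf_le_inf_left c.W inf_le_right)
  have hd : Nat.card ↥S ∣ 244823040 := by
    have h := card_dvd_of_le (sup_le (le_normalizer : c.W ≤ NW) (inf_le_left : S ≤ NW))
    rw [card_sup_product (K := c.W) (L := S) inf_le_left hSW, c.card_W, c.card_normalizer_W d.split d.extra.card_NI] at h
    exact Nat.dvd_of_mul_dvd_mul_left (by norm_num) h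
  have h5 : ¬ 5 ∣ Nat.card ↥S := fun h => h32 (d.five_kind hU hb h)
  have h23 : ¬ 23 ∣ Nat.card ↥S := fun h => by
    haveI : Fact (Nat.Prime 23) := ⟨by norm_num⟩
    obtain ⟨y, hy⟩ := exists_prime_orderOf_dvd_card' (G := ↥S) 23 h
    rw [← Subgroup.orderOf_coe] at hy
    exact h6 (d.six y y.2.1 hy U hU (d.ne_W hb) y.2.2)
  have h27 : ¬ 27 ∣ Nat.card ↥S := fun h => by
    haveI : Fact (Nat.Prime 3) := ⟨Nat.prime_three⟩
    obtain ⟨Q, hQ⟩ := Sylow.exists_subgroup_card_pow_prime (G := ↥S) 3 (n := 3) (by norm_num; exact h)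
    refine c.twenty_seven_meets d.split d.extra hU (S := Q.map S.subtype) ?_
      ((map_subtype_le Q).trans inf_le_left) ((map_subtype_le Q).trans inf_le_right) hb
    rw [← Nat.card_congr (Q.equivMapOfInjective S.subtype S.subtype_injective).toEquiv, hQ]
    norm_num
  have hmul := d.stab_mul U
  by_cases h11 : 11 ∣ Nat.card ↥S
  · obtain ⟨m, k, hm, hk, hm1⟩ := c.eleven_stab d.split d.extra d.five inf_le_left hSW h11 h5
    exact rest_eleven hmul hd h27 h5 (d.not_seven hU hb) h23 hm hk hm1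
  · exact Or.inl (rest_plain hmul hd h27 h5 (d.not_seven hU hb) h23 h11)

/-- The seven suborbits. -/
theorem seven_suborbits : ∃ U : Fin 7 → Subgroup G, (∀ i, U i ∈ c.Pts) ∧
    (List.ofFn fun i => (orbS NW (U i)).ncard) =
      [1, 15180, 28336, 3400320, 32643072, 54405120, 82575360] ∧
    ∀ V ∈ c.Pts, ∃ i, V ∈ orbS NW (U i) := by
  classical
  obtain ⟨U₁, U₂, hU₁, hU₂, -, -, o1, o2, -, -, b1, b2, hcov⟩ := c.share_orbits d.split d.extra d.hex
  obtain ⟨V, hVP, hVb, hVT, oV, hV40, hV56, hpure⟩ := d.kind32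
  obtain ⟨X, hXP, hXb, hXT, hXn, -⟩ := d.kind_orbit d.k40 (by norm_num)
  obtain ⟨Y, hYP, hYb, hYT, hYn, -⟩ := d.kind_orbit d.k56 (by norm_num)
  have h6 := d.card_six
  have hW1 : (orbS NW c.W).ncard = 1 := by rw [d.orb_W, Set.ncard_singleton]
  obtain ⟨c1, e1⟩ := d.closed_Pts.sdiff_orb c.W_mem_Pts
  obtain ⟨c2, e2⟩ := c1.sdiff_orb (mem_sdiff_of_ne hU₁ (by omega))
  obtain ⟨c3, e3⟩ := c2.sdiff_orb (mem_sdiff_of_ne (mem_sdiff_of_ne hU₂ (by omega)) (by omega))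
  obtain ⟨c4, e4⟩ := c3.sdiff_orb
    (mem_sdiff_of_ne (mem_sdiff_of_ne (mem_sdiff_of_ne d.V₆_mem (by omega)) (by omega)) (by omega))
  obtain ⟨c5, e5⟩ := c4.sdiff_orb (mem_sdiff_of_ne
    (mem_sdiff_of_ne (mem_sdiff_of_ne (mem_sdiff_of_ne hVP (by omega)) (by omega)) (by omega))
    (by omega : (orbS NW V).ncard ≠ (orbS NW V₆).ncard))
  have hP := d.ncard_Pts
  set R₅ := ((((c.Pts \ orbS NW c.W) \ orbS NW U₁) \ orbS NW U₂) \ orbS NW V₆) \ orbS NW V with hR₅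
  have hR5 : R₅.ncard = 57805440 := by omega
  have same : ∀ {T : Set (Subgroup G)} {m : ℕ}, c.Kind T m → 0 < m → ∀ {Z Z' : Subgroup G}, T ⊆ orbS NW Z →
      T ⊆ orbS NW Z' → orbS NW Z = orbS NW Z' := by
    intro T m hT hm Z Z' h h'
    obtain ⟨w, hw⟩ : T.Nonempty := Set.nonempty_of_ncard_ne_zero (by rw [hT.card]; omega)
    rw [← orbS_eq_of_mem (h hw), orbS_eq_of_mem (h' hw)]
  have hX32 : ¬ T32 ⊆ orbS NW X := fun h => hV40 (same d.k32 (by norm_num) h hVT ▸ hXT)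
  have hY32 : ¬ T32 ⊆ orbS NW Y := fun h => hV56 (same d.k32 (by norm_num) h hVT ▸ hYT)
  have oX : ((orbS NW X).ncard = 40803840 ∨ (orbS NW X).ncard = 13601280) ∧ ¬ T56 ⊆ orbS NW X ∨
      (orbS NW X).ncard = 3400320 ∧ T56 ⊆ orbS NW X := by
    rcases d.middle hXP hXb (hpure X hXP hXb) hXn with h | h | h | h | h
    exacts [absurd h.1 hX32, absurd h.1 hX32, Or.inl ⟨h.2.2.2.2, h.2.2.1⟩, absurd hXT h.2.1,
      Or.inr ⟨h.2.2.2.2, h.2.2.1⟩]
  have mem5 : ∀ {Z : Subgroup G}, Z ∈ c.Pts → c.W ⊓ Z = ⊥ → ¬ T32 ⊆ orbS NW Z →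
      (orbS NW Z).ncard ≠ 82575360 → Z ∈ R₅ := by
    intro Z hZ hZb hZ32 hne
    refine ⟨mem_sdiff_of_ne ⟨⟨⟨hZ, fun h => d.ne_W hZb (by rwa [d.orb_W] at h)⟩, fun h => b1 ?_⟩, fun h => b2 ?_⟩
      (by omega), fun h => hZ32 ((orbS_eq_of_mem h).symm ▸ hVT)⟩
    · exact d.bot_of_mem_orb hZb (by rw [orbS_eq_of_mem h]; exact orbS_self _ _)
    · exact d.bot_of_mem_orb hZb (by rw [orbS_eq_of_mem h]; exact orbS_self _ _)
  have hrest : ∀ Z ∈ R₅, ¬ T40 ⊆ orbS NW Z → ¬ T56 ⊆ orbS NW Z →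
      54405120 ≤ (orbS NW Z).ncard ∨ (orbS NW Z).ncard = 44513280 := by
    rintro Z ⟨⟨⟨⟨⟨hZ, hZW⟩, hZ1⟩, hZ2⟩, hZ6⟩, hZV⟩ h40 h56
    have hZb : c.W ⊓ Z = ⊥ := by
      by_contra hb
      exact (hcov Z hZ (fun e => hZW (e ▸ orbS_self _ _)) hb).elim hZ1 hZ2
    exact d.rest_length hpure hZ hZb hZ6 (fun h => hZV (same d.k32 (by norm_num) h hVT ▸ orbS_self _ _)) h40 h56
  obtain ⟨c6, e6⟩ := c5.sdiff_orb (mem5 hXP hXb hX32 (by omega))
  rcases oX with ⟨oX, hX56⟩ | ⟨oX, hX56⟩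
  · -- separate kinds are impossible
    exfalso
    have oY : (orbS NW Y).ncard = 10200960 ∨ (orbS NW Y).ncard = 3400320 := by
      rcases d.middle hYP hYb (hpure Y hYP hYb) hYn with h | h | h | h | h
      exacts [absurd h.1 hY32, absurd h.1 hY32, absurd hYT h.2.2.1, h.2.2.2.2,
        absurd (same d.k40 (by norm_num) h.2.1 hXT ▸ hYT) hX56]
    have hYX : Y ∉ orbS NW X := fun h => hX56 (orbS_eq_of_mem h ▸ hYT)
    obtain ⟨-, e7⟩ := c6.sdiff_orb ⟨mem5 hYP hYb hY32 (by omega), hYX⟩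
    obtain ⟨Z, ⟨hZ5, hZX⟩, hZY⟩ : ((R₅ \ orbS NW X) \ orbS NW Y).Nonempty :=
      Set.nonempty_of_ncard_ne_zero (by omega)
    have hh := hrest Z hZ5 (fun h => hZX (same d.k40 (by norm_num) h hXT ▸ orbS_self _ _))
      fun h => hZY (same d.k56 (by norm_num) h hYT ▸ orbS_self _ _)
    have hle := Set.ncard_le_ncard ((c6.sdiff_orb ⟨mem5 hYP hYb hY32 (by omega), hYX⟩).1.orb_sub
      (show Z ∈ (R₅ \ orbS NW X) \ orbS NW Y from ⟨⟨hZ5, hZX⟩, hZY⟩)) (Set.toFinite _)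
    omega
  · -- one orbit is left
    have hR6 : (R₅ \ orbS NW X).ncard = 54405120 := by omega
    have hb6 : ∀ Z ∈ R₅ \ orbS NW X, 54405120 ≤ (orbS NW Z).ncard ∨ (orbS NW Z).ncard = 44513280 :=
      fun Z ⟨hZ5, hZX⟩ => hrest Z hZ5 (fun h => hZX (same d.k40 (by norm_num) h hXT ▸ orbS_self _ _))
        fun h => hZX (same d.k56 (by norm_num) h hX56 ▸ orbS_self _ _)
    obtain ⟨Z, hZ⟩ : (R₅ \ orbS NW X).Nonempty := Set.nonempty_of_ncard_ne_zero (by omega)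
    obtain ⟨c7, e7⟩ := c6.sdiff_orb hZ
    have oZ : (orbS NW Z).ncard = 54405120 := by
      rcases hb6 Z hZ with h | h
      · omega
      · obtain ⟨Z', hZ'⟩ : ((R₅ \ orbS NW X) \ orbS NW Z).Nonempty := Set.nonempty_of_ncard_ne_zero (by omega)
        have := hb6 Z' hZ'.1
        have := Set.ncard_le_ncard (c7.orb_sub hZ') (Set.toFinite _)
        omega
    have he7 : (R₅ \ orbS NW X) \ orbS NW Z = ∅ := (Set.ncard_eq_zero (Set.toFinite _)).1 (by omega)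
    refine ⟨![c.W, U₁, U₂, X, V, Z, V₆], ?_, ?_, fun Q hQ => ?_⟩
    · intro i
      fin_cases i
      exacts [c.W_mem_Pts, hU₁, hU₂, hXP, hVP, hZ.1.1.1.1.1.1, d.V₆_mem]
    · simp [List.ofFn_succ, hW1, o1, o2, oX, oV, oZ, h6]
    · by_contra hno
      push Not at hno
      exact Set.notMem_empty Q (he7 ▸ (show Q ∈ (R₅ \ orbS NW X) \ orbS NW Z from
        ⟨⟨⟨⟨⟨⟨⟨hQ, hno 0⟩, hno 1⟩, hno 2⟩, hno 6⟩, hno 4⟩, hno 3⟩, hno 5⟩))

end SubData

end Ctx

end CfsgLib.Spor.JFourType
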