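import Cfsg.Agent.Lib.Spor.JFourType.Suborbit.ShareOrbits
import Cfsg.Agent.Lib.Spor.JFourType.LocalSylow

/-!
# The kinds of conjugates of `W` normalized by `z`

An orbit of the centralizer of `z` on them splits under the normalizer of `W` according to the position of `I`
under the centralizer of the attached outer involution.
-/

set_option autoImplicit false
set_option linter.style.haveILetI false

namespace CfsgLib.Spor.JFourType.Ctx

open Subgroup Suborbit

universe u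

variable {G : Type u} [Group G] [Finite G] {A : Type} [Group A] {J I R : Subgroup A}
  {z : G} {P : Subgroup G} (c : Ctx J I R z P)
include c

/-- The conjugates of `W` normalized by `z` and not containing it. -/
def Fix₀ : Set (Subgroup G) := {V | V ∈ c.Pts ∧ z ∈ normalizer (V : Set G) ∧ z ∉ V}

/-- The members `y` of `W` at which `U` has a given kind `T`. -/
def kindSet (T : Set (Subgroup G)) (U : Subgroup G) : Set G :=
  {y | ∃ g ∈ normalizer (c.W : Set G), g * z * g⁻¹ = y ∧ conjS g⁻¹ U ∈ T}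

theorem mem_Zw_iff (hs : c.Split) {y : G} :
    y ∈ c.Zw ↔ ∃ g ∈ normalizer (c.W : Set G), g * z * g⁻¹ = y := by
  refine ⟨fun hy => hs.fusion y hy.1 hy.2, ?_⟩
  rintro ⟨g, hg, rfl⟩
  exact ⟨(mem_normalizer_iff.1 hg z).1 c.z_mem_W', (c.isConj_z_conj g z).2 (IsConj.refl z)⟩

theorem conjS_orbS {N U V : Subgroup G} {g : G} (hg : g ∈ N) (h : V ∈ orbS N U) : conjS g V ∈ orbS N U := by
  obtain ⟨n, hn, rfl⟩ := h
  exact ⟨g * n, mul_mem hg hn, (conjS_conjS g n U).symm⟩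

/-- Counting an invariant set over the conjugates of `z`. -/
theorem count_kind (hs : c.Split) {T : Set (Subgroup G)}
    (hT : ∀ g ∈ normalizer (c.W : Set G) ⊓ c.H, ∀ V ∈ T, conjS g V ∈ T) (U : Subgroup G) :
    (orbS (normalizer (c.W : Set G)) U).ncard * (c.kindSet T U).ncard =
      1771 * (orbS (normalizer (c.W : Set G)) U ∩ T).ncard := by
  set N := normalizer (c.W : Set G) with hN
  have hconst : ∀ V ∈ orbS N U, {y | y ∈ c.Zw ∧ y ∈ c.kindSet T V}.ncard = (c.kindSet T U).ncard := by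
    rintro _ ⟨n, hn, rfl⟩
    rw [← Set.ncard_image_of_injective (c.kindSet T U) (MulAut.conj n).injective]
    congr 1
    ext y
    constructor
    · rintro ⟨-, g, hg, rfl, hV⟩
      refine ⟨n⁻¹ * g * z * (n⁻¹ * g)⁻¹, ⟨n⁻¹ * g, mul_mem (inv_mem hn) hg, rfl, ?_⟩, by simp [mul_assoc]⟩
      rwa [mul_inv_rev, inv_inv, ← conjS_conjS]
    · rintro ⟨_, ⟨g, hg, rfl, hV⟩, rfl⟩
      have e : MulAut.conj n (g * z * g⁻¹) = n * g * z * (n * g)⁻¹ := by simp [mul_assoc]
      refine ⟨(c.mem_Zw_iff hs).2 ⟨n * g, mul_mem hn hg, e.symm⟩, n * g, mul_mem hn hg, e.symm, ?_⟩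
      rwa [conjS_conjS, show (n * g)⁻¹ * n = g⁻¹ by group]
  rw [← hs.card_conj]
  refine ncard_mul_eq (orbS N U) c.Zw (fun V y => y ∈ c.kindSet T V) hconst fun y hy => ?_
  obtain ⟨g, hg, rfl⟩ := (c.mem_Zw_iff hs).1 hy
  rw [← Set.ncard_image_of_injective (orbS N U ∩ T) (conjS_injective g)]
  congr 1
  ext V
  constructor
  · rintro ⟨hV, g', hg', e, hT'⟩
    refine ⟨conjS g⁻¹ V, ⟨c.conjS_orbS (inv_mem hg) hV, ?_⟩, by rw [conjS_conjS, mul_inv_cancel, conjS_one]⟩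
    have hh : g⁻¹ * g' ∈ c.H := mem_centralizer_singleton_iff.2 (by
      calc g⁻¹ * g' * z = g⁻¹ * (g' * z * g'⁻¹) * g' := by group
        _ = g⁻¹ * (g * z * g⁻¹) * g' := by rw [e]
        _ = _ := by group)
    have h := hT (g⁻¹ * g') (mem_inf.2 ⟨mul_mem (inv_mem hg) hg', hh⟩) _ hT'
    rwa [conjS_conjS, mul_inv_cancel_right] at h
  · rintro ⟨V, ⟨hV, hVT⟩, rfl⟩
    exact ⟨c.conjS_orbS hg hV, g, hg, rfl, by rwa [conjS_conjS, inv_mul_cancel, conjS_one]⟩

theorem Fix₀_inv : ∀ g ∈ normalizer (c.W : Set G) ⊓ c.H, ∀ V ∈ c.Fix₀, conjS g V ∈ c.Fix₀ := by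
  rintro g ⟨-, hg⟩ V ⟨hV, hn, hz⟩
  have e : g⁻¹ * z * g = z := by rw [mul_assoc, ← c.comm_z hg, inv_mul_cancel_left]
  refine ⟨c.Pts_conj hV g, ?_, ?_⟩
  · rw [mem_normalizer_conjS, e]; exact hn
  · rw [mem_conjS, e]; exact hz

theorem kindSet_Fix₀ (hs : c.Split) {U : Subgroup G} (hU : U ∈ c.Pts) : c.kindSet c.Fix₀ U = c.Yset U := by
  ext y
  constructor
  · rintro ⟨g, hg, rfl, -, hn, hz⟩
    refine ⟨(c.mem_Zw_iff hs).2 ⟨g, hg, rfl⟩, ?_, fun h => hz ?_⟩
    · rw [mem_normalizer_conjS, inv_inv] at hn; exact hn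
    · rw [mem_conjS, inv_inv]; exact h
  · rintro ⟨hy, hn, hy'⟩
    obtain ⟨g, hg, rfl⟩ := (c.mem_Zw_iff hs).1 hy
    refine ⟨g, hg, rfl, c.Pts_conj hU _, ?_, fun h => hy' ?_⟩
    · rw [mem_normalizer_conjS, inv_inv]; exact hn
    · rw [mem_conjS, inv_inv] at h; exact h

/-- Counting all of them. -/
theorem count_Yset (hs : c.Split) {U : Subgroup G} (hU : U ∈ c.Pts) :
    (orbS (normalizer (c.W : Set G)) U).ncard * (c.Yset U).ncard =
      1771 * (orbS (normalizer (c.W : Set G)) U ∩ c.Fix₀).ncard := by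
  rw [← c.kindSet_Fix₀ hs hU]
  exact c.count_kind hs c.Fix₀_inv U

/-- A kind: an orbit of the stabilizer of `z` in the normalizer of `W`. -/
structure Kind (T : Set (Subgroup G)) (n : ℕ) : Prop where
  sub : T ⊆ c.Fix₀
  card : T.ncard = n
  inv : ∀ g ∈ normalizer (c.W : Set G) ⊓ c.H, ∀ V ∈ T, conjS g V ∈ T
  trans : ∀ V ∈ T, ∀ V' ∈ T, V' ∈ orbS (normalizer (c.W : Set G) ⊓ c.H) V

theorem Kind.inter {T : Set (Subgroup G)} {n : ℕ} (h : c.Kind T n) {U : Subgroup G} :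
    T ⊆ orbS (normalizer (c.W : Set G)) U ∨ Disjoint (orbS (normalizer (c.W : Set G)) U) T := by
  refine or_iff_not_imp_right.2 fun hd V' hV' => ?_
  obtain ⟨V, hVo, hV⟩ := Set.not_disjoint_iff.1 hd
  obtain ⟨g, hg, rfl⟩ := h.trans V hV V' hV'
  exact c.conjS_orbS hg.1 hVo

/-- Each kind counts, at a conjugate in its orbit, a whole number of members of `W`. -/
theorem Kind.count {T : Set (Subgroup G)} {n : ℕ} (hs : c.Split) (h : c.Kind T n) {U : Subgroup G}
    (hU : T ⊆ orbS (normalizer (c.W : Set G)) U) :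
    (orbS (normalizer (c.W : Set G)) U).ncard * (c.kindSet T U).ncard = 1771 * n := by
  rw [c.count_kind hs h.inv U, Set.inter_eq_right.2 hU, h.card]

theorem orbit_hexads {S : Subgroup A} {n : ℕ} (hlen : (lenSet I S n).ncard = n) {K : Subgroup A}
    (hK : K ∈ lenSet I S n) : orbS S K = lenSet I S n := by
  haveI := c.finite_A
  refine Set.eq_of_subset_of_ncard_le ?_ (by rw [hlen, hK.2]) (Set.toFinite _)
  intro L hL
  refine ⟨?_, by rw [orbS_eq_of_mem hL]; exact hK.2⟩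
  obtain ⟨x, -, rfl⟩ := hL
  obtain ⟨g, rfl⟩ := hK.1
  exact ⟨x * g, (conjS_conjS x g I).symm⟩

/-- The image in the quotient of the stabilizer of `V₀`. -/
noncomputable def imStab (V₀ : Subgroup G) : Subgroup A := ((normalizer (V₀ : Set G)).subgroupOf c.H).map c.pr

theorem mem_imStab {V₀ : Subgroup G} {k : A} :
    k ∈ c.imStab V₀ ↔ ∃ h ∈ c.H, h ∈ normalizer (V₀ : Set G) ∧ c.im h = k := by
  constructor
  · rintro ⟨⟨h, hh⟩, hn, rfl⟩
    exact ⟨h, hh, hn, c.im_eq hh⟩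
  · rintro ⟨h, hh, hn, rfl⟩
    exact ⟨⟨h, hh⟩, hn, (c.im_eq hh).symm⟩

/-- The three orbit lengths leave no room for a merge. -/
theorem lenSet_invariant {V₀ : Subgroup G} {b : A} {M n p q d : ℕ}
    (hlift : ∀ k, k * b = b * k → ∃ h ∈ c.H, c.im h = k ∧ h ∈ normalizer (V₀ : Set G))
    (hM : (orbS c.H V₀).ncard = M) (hcard : (hexs I).ncard = 77) (hsum : n + p + q = 77)
    (hn : (lenSet I (centralizer ({b} : Set A)) n).ncard = n)
    (hp : (lenSet I (centralizer ({b} : Set A)) p).ncard = p)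
    (hq : (lenSet I (centralizer ({b} : Set A)) q).ncard = q) (hd : n ≠ p ∧ n ≠ q ∧ p ≠ q)
    (hgcd : Nat.gcd 887040 (Nat.card ↥c.H / M) = d)
    (hex : ¬ n + p ∣ d ∧ ¬ n + q ∣ d ∧ ¬ n + p + q ∣ d) :
    ∀ k ∈ c.imStab V₀, ∀ K ∈ lenSet I (centralizer ({b} : Set A)) n,
      conjS k K ∈ lenSet I (centralizer ({b} : Set A)) n := by
  classical
  haveI := c.finite_A
  intro k hk K hK
  set C := centralizer ({b} : Set A)
  set S := c.imStab V₀ with hS
  have hCS : C ≤ S := fun x hx => by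
    obtain ⟨h, hh, e, hn'⟩ := hlift x (mem_centralizer_singleton_iff.1 hx)
    exact c.mem_imStab.2 ⟨h, hh, hn', e⟩
  have hSd : Nat.card ↥S ∣ d := by
    rw [← hgcd]
    refine Nat.dvd_gcd ?_ ?_
    · have h := card_subgroup_dvd_card S
      rwa [c.natCard_A] at h
    · have h1 := ncard_orbS_mul c.H V₀
      rw [hM, inf_comm, ← Nat.card_congr (subgroupOfEquivOfLe
        (inf_le_right : normalizer (V₀ : Set G) ⊓ c.H ≤ c.H)).toEquiv, inf_subgroupOf_right] at h1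
      have hM0 : 0 < M := hM ▸ (Set.ncard_pos (Set.toFinite _)).2 ⟨V₀, orbS_self _ _⟩
      rw [← h1, Nat.mul_div_cancel_left _ hM0]
      exact card_dvd_of_surjective _ (MonoidHom.subgroupMap_surjective c.pr _)
  have hO : (orbS S K).ncard ∣ d := (Dvd.intro _ (ncard_orbS_mul S K)).trans hSd
  have hsub : ∀ {m : ℕ}, (lenSet I C m).ncard = m → ∀ L ∈ lenSet I C m, L ∈ orbS S K →
      lenSet I C m ⊆ orbS S K := by
    intro m hm L hL hLO L' hL'
    rw [← c.orbit_hexads hm hL] at hL'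
    obtain ⟨x, hx, rfl⟩ := hL'
    obtain ⟨y, hy, rfl⟩ := hLO
    exact ⟨x * y, mul_mem (hCS hx) hy, (conjS_conjS x y K).symm⟩
  have hdis : ∀ {i j : ℕ}, i ≠ j → Disjoint (lenSet I C i) (lenSet I C j) := fun hij =>
    Set.disjoint_left.2 fun L h1 h2 => hij (h1.2.symm.trans h2.2)
  have hall : hexs I = lenSet I C n ∪ lenSet I C p ∪ lenSet I C q := by
    refine (Set.eq_of_subset_of_ncard_le ?_ ?_ (Set.toFinite _)).symm
    · exact Set.union_subset (Set.union_subset (fun L h => h.1) fun L h => h.1) fun L h => h.1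
    · rw [Set.ncard_union_eq (Set.disjoint_union_left.2 ⟨hdis hd.2.1, hdis hd.2.2⟩),
        Set.ncard_union_eq (hdis hd.1), hn, hp, hq, hcard, hsum]
  have hKO : lenSet I C n ⊆ orbS S K := hsub hn K hK (orbS_self _ _)
  have hOsub : orbS S K ⊆ hexs I := by
    rintro _ ⟨x, -, rfl⟩
    obtain ⟨g, rfl⟩ := hK.1
    exact ⟨x * g, (conjS_conjS x g I).symm⟩
  have hcase : ∀ {m : ℕ}, (lenSet I C m).ncard = m →
      lenSet I C m ⊆ orbS S K ∨ Disjoint (orbS S K) (lenSet I C m) := fun {m} hm =>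
    or_iff_not_imp_right.2 fun h => by
      obtain ⟨L, h1, h2⟩ := Set.not_disjoint_iff.1 h
      exact hsub hm L h2 h1
  have hdec : orbS S K = lenSet I C n ∪ (orbS S K ∩ lenSet I C p) ∪ (orbS S K ∩ lenSet I C q) := by
    ext L
    constructor
    · intro h
      have h' := hOsub h
      rw [hall] at h'
      rcases h' with (h' | h') | h'
      exacts [Or.inl (Or.inl h'), Or.inl (Or.inr ⟨h, h'⟩), Or.inr ⟨h, h'⟩]
    · rintro ((h | h) | h)
      exacts [hKO h, h.1, h.1]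
  have hnc : (orbS S K).ncard =
      n + (orbS S K ∩ lenSet I C p).ncard + (orbS S K ∩ lenSet I C q).ncard := by
    conv_lhs => rw [hdec]
    rw [Set.ncard_union_eq (Set.disjoint_union_left.2 ⟨(hdis hd.2.1).mono_right Set.inter_subset_right,
        (hdis hd.2.2).mono Set.inter_subset_right Set.inter_subset_right⟩),
      Set.ncard_union_eq ((hdis hd.1).mono_right Set.inter_subset_right), hn]
  rw [hnc] at hO
  have hx : conjS k K ∈ orbS S K := ⟨k, hk, rfl⟩
  rw [hdec] at hx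
  rcases hx with (hx | hx) | hx
  · exact hx
  · exfalso
    rw [Set.inter_eq_right.2 ((hcase hp).resolve_right (Set.not_disjoint_iff.2 ⟨_, hx.1, hx.2⟩)), hp] at hO
    rcases hcase hq with h | h
    · rw [Set.inter_eq_right.2 h, hq] at hO; exact hex.2.2 hO
    · rw [Set.disjoint_iff_inter_eq_empty.1 h, Set.ncard_empty, add_zero] at hO; exact hex.1 hO
  · exfalso
    rw [Set.inter_eq_right.2 ((hcase hq).resolve_right (Set.not_disjoint_iff.2 ⟨_, hx.1, hx.2⟩)), hq] at hO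
    rcases hcase hp with h | h
    · rw [Set.inter_eq_right.2 h, hp] at hO; exact hex.2.2 hO
    · rw [Set.disjoint_iff_inter_eq_empty.1 h, Set.ncard_empty, add_zero] at hO; exact hex.2.1 hO

/-- The kind over one orbit length. -/
def kindOf (V₀ : Subgroup G) (L : Set (Subgroup A)) : Set (Subgroup G) :=
  {V | ∃ h ∈ c.H, conjS h V₀ = V ∧ conjS (c.im h)⁻¹ I ∈ L}

theorem kindOf_disjoint {V₀ : Subgroup G} {L L' : Set (Subgroup A)}
    (hinv : ∀ k ∈ c.imStab V₀, ∀ K ∈ L, conjS k K ∈ L) (hd : Disjoint L L') :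
    Disjoint (c.kindOf V₀ L) (c.kindOf V₀ L') := by
  refine Set.disjoint_left.2 ?_
  rintro _ ⟨h, hh, rfl, hK⟩ ⟨h', hh', e, hK'⟩
  have hn : h'⁻¹ * h ∈ normalizer (V₀ : Set G) := mem_normalizer_iff_conjS.2 (by
    rw [← conjS_conjS, ← e, conjS_conjS, inv_mul_cancel, conjS_one])
  have h2 := hinv _ (c.mem_imStab.2 ⟨_, mul_mem (inv_mem hh') hh, hn, rfl⟩) _ hK
  rw [c.im_mul (inv_mem hh') hh, c.im_inv hh', conjS_conjS, mul_inv_cancel_right] at h2
  exact Set.disjoint_left.1 hd h2 hK'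

theorem kind_of_length {V₀ : Subgroup G} (hV₀ : V₀ ∈ c.Fix₀) {b : A} {M n m : ℕ}
    (hlift : ∀ k, k * b = b * k → ∃ h ∈ c.H, c.im h = k ∧ h ∈ normalizer (V₀ : Set G))
    (hM : (orbS c.H V₀).ncard = M) (hcard : (hexs I).ncard = 77)
    (hn : (lenSet I (centralizer ({b} : Set A)) n).ncard = n)
    (hinv : ∀ k ∈ c.imStab V₀, ∀ K ∈ lenSet I (centralizer ({b} : Set A)) n,
      conjS k K ∈ lenSet I (centralizer ({b} : Set A)) n)
    (hm : M * n = 77 * m) :
    c.Kind (c.kindOf V₀ (lenSet I (centralizer ({b} : Set A)) n)) m := by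
  classical
  haveI := c.finite_A
  set C := centralizer ({b} : Set A)
  set L := lenSet I C n with hL
  set T := c.kindOf V₀ L with hT
  have hback : ∀ {h h' : G}, h ∈ c.H → h' ∈ c.H → conjS h V₀ = conjS h' V₀ → ∀ {K : Subgroup A},
      conjS (c.im h)⁻¹ K ∈ L → conjS (c.im h')⁻¹ K ∈ L := by
    intro h h' hh hh' e K hK
    have hn' : h'⁻¹ * h ∈ normalizer (V₀ : Set G) := mem_normalizer_iff_conjS.2 (by
      rw [← conjS_conjS, e, conjS_conjS, inv_mul_cancel, conjS_one])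
    have h2 := hinv _ (c.mem_imStab.2 ⟨_, mul_mem (inv_mem hh') hh, hn', rfl⟩) _ hK
    rwa [c.im_mul (inv_mem hh') hh, c.im_inv hh', conjS_conjS, mul_inv_cancel_right] at h2
  refine ⟨?_, ?_, ?_, ?_⟩
  · rintro _ ⟨h, hh, rfl, -⟩
    have e : h⁻¹ * z * h = z := by rw [mul_assoc, ← c.comm_z hh, inv_mul_cancel_left]
    exact ⟨c.Pts_conj hV₀.1 h, by rw [mem_normalizer_conjS, e]; exact hV₀.2.1,
      fun hc => hV₀.2.2 (by rw [mem_conjS, e] at hc; exact hc)⟩
  · have key := ncard_mul_eq (orbS c.H V₀) (hexs I)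
      (fun V K => ∃ h ∈ c.H, conjS h V₀ = V ∧ conjS (c.im h)⁻¹ K ∈ L) (a := n) (b := T.ncard) ?_ ?_
    · rw [hM, hm, hcard] at key; omega
    · rintro _ ⟨h, hh, rfl⟩
      rw [← hn, ← Set.ncard_image_of_injective L (conjS_injective (c.im h))]
      congr 1
      ext K
      constructor
      · rintro ⟨-, h', hh', e, hK⟩
        exact ⟨_, hback hh' hh e hK, by rw [conjS_conjS, mul_inv_cancel, conjS_one]⟩
      · rintro ⟨K, hK, rfl⟩
        obtain ⟨g, hg⟩ := hK.1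
        refine ⟨⟨c.im h * g, ?_⟩, h, hh, rfl, by rwa [conjS_conjS, inv_mul_cancel, conjS_one]⟩
        rw [← conjS_conjS, hg]
    · rintro _ ⟨g, rfl⟩
      obtain ⟨g, hg, rfl⟩ := c.exists_H_im g
      rw [← Set.ncard_image_of_injective T (conjS_injective g)]
      congr 1
      ext V
      constructor
      · rintro ⟨-, h, hh, rfl, hK⟩
        refine ⟨conjS (g⁻¹ * h) V₀, ⟨g⁻¹ * h, mul_mem (inv_mem hg) hh, rfl, ?_⟩,
          by rw [conjS_conjS, mul_inv_cancel_left]⟩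
        rw [c.im_mul (inv_mem hg) hh, c.im_inv hg, mul_inv_rev, inv_inv, ← conjS_conjS]
        exact hK
      · rintro ⟨_, ⟨h, hh, rfl, hK⟩, rfl⟩
        refine ⟨⟨g * h, mul_mem hg hh, (conjS_conjS g h V₀).symm⟩, g * h, mul_mem hg hh,
          (conjS_conjS g h V₀).symm, ?_⟩
        rwa [c.im_mul hg hh, mul_inv_rev, conjS_conjS, inv_mul_cancel_right]
  · rintro g ⟨hgN, hg⟩ _ ⟨h, hh, rfl, hK⟩
    refine ⟨g * h, mul_mem hg hh, (conjS_conjS g h V₀).symm, ?_⟩
    rwa [c.im_mul hg hh, mul_inv_rev, ← conjS_conjS,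
      conjS_of_mem_normalizer (inv_mem (c.im_normalizer_of_W hg hgN))]
  · rintro _ ⟨h, hh, rfl, hK⟩ _ ⟨h', hh', rfl, hK'⟩
    rw [hL, ← c.orbit_hexads hn hK] at hK'
    obtain ⟨k, hk, e⟩ := hK'
    obtain ⟨k₀, hk₀, rfl, hkV⟩ := hlift k (mem_centralizer_singleton_iff.1 hk)
    have hkh : k₀ * h⁻¹ ∈ c.H := mul_mem hk₀ (inv_mem hh)
    refine ⟨h' * (k₀ * h⁻¹), mem_inf.2 ⟨c.normW_of_im (mul_mem hh' hkh) (mem_normalizer_iff_conjS.2 ?_),
      mul_mem hh' hkh⟩, ?_⟩
    · rw [c.im_mul hh' hkh, c.im_mul hk₀ (inv_mem hh), c.im_inv hh, ← conjS_conjS, ← conjS_conjS, e, conjS_conjS,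
        mul_inv_cancel, conjS_one]
    · rw [conjS_conjS, mul_assoc, inv_mul_cancel_right, ← conjS_conjS, conjS_of_mem_normalizer hkV]

/-- The three kinds beside those met in the conjugates meeting `W`. -/
theorem exists_kinds (hs : c.Split) (hf : HexFacts J I)
    (hfx : ∃ (Vs Vl : Subgroup G) (a b : A), Vs ∈ c.Fix₀ ∧ Vl ∈ c.Fix₀ ∧ b ∉ J ∧ b * b = 1 ∧
      {x | IsConj b x}.ncard = 330 ∧ a ∉ J ∧ a * a = 1 ∧ {x | IsConj a x}.ncard = 1386 ∧
      (∀ V ∈ c.Fix₀, ∃ h ∈ c.H, conjS h Vs = V ∨ conjS h Vl = V) ∧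
      (orbS c.H Vs).ncard = 7920 ∧ (orbS c.H Vl).ncard = 44352 ∧
      (∀ k, k * b = b * k → ∃ h ∈ c.H, c.im h = k ∧ h ∈ normalizer (Vs : Set G)) ∧
      ∀ k, k * a = a * k → ∃ h ∈ c.H, c.im h = k ∧ h ∈ normalizer (Vl : Set G))
    (huniq : ∀ a a' : A, a ∉ J → a * a = 1 → a' ∉ J → a' * a' = 1 →
      {x | IsConj a x}.ncard = {x | IsConj a' x}.ncard → IsConj a a') :
    ∃ T32 T40 T56 : Set (Subgroup G), c.Kind T32 18432 ∧ c.Kind T40 23040 ∧ c.Kind T56 5760 ∧
      Disjoint T32 T40 ∧ Disjoint T32 T56 ∧ Disjoint T40 T56 ∧ c.Fix₀.ncard = 52272 := by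
  classical
  haveI := c.finite_A
  obtain ⟨Vs, Vl, a, b, hVs, hVl, hbJ, hb2, hb, haJ, ha2, ha, hcov, hMs, hMl, hls, hll⟩ := hfx
  -- transport the orbit lengths to the given representatives
  have htr : ∀ {a a' : A}, IsConj a a' → ∀ n,
      (lenSet I (centralizer ({a'} : Set A)) n).ncard = (lenSet I (centralizer ({a} : Set A)) n).ncard := by
    intro a a' h n
    obtain ⟨g, rfl⟩ := isConj_iff.1 h
    rw [← Set.ncard_image_of_injective (lenSet I (centralizer ({a} : Set A)) n) (conjS_injective g)]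
    congr 1
    have hc : ∀ x, x ∈ centralizer ({g * a * g⁻¹} : Set A) ↔ g⁻¹ * x * g ∈ centralizer ({a} : Set A) := fun x => by
      rw [mem_centralizer_singleton_iff, mem_centralizer_singleton_iff]
      constructor <;> intro h
      · calc g⁻¹ * x * g * a = g⁻¹ * (x * (g * a * g⁻¹)) * g := by group
          _ = g⁻¹ * (g * a * g⁻¹ * x) * g := by rw [h]
          _ = _ := by group
      · calc x * (g * a * g⁻¹) = g * (g⁻¹ * x * g * a) * g⁻¹ := by group
          _ = g * (a * (g⁻¹ * x * g)) * g⁻¹ := by rw [h]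
          _ = _ := by group
    have horb : ∀ K, orbS (centralizer ({g * a * g⁻¹} : Set A)) (conjS g K) =
        conjS g '' orbS (centralizer ({a} : Set A)) K := fun K => by
      ext L
      constructor
      · rintro ⟨x, hx, rfl⟩
        exact ⟨_, ⟨_, (hc x).1 hx, rfl⟩, by rw [conjS_conjS, conjS_conjS]; congr 1; group⟩
      · rintro ⟨_, ⟨x, hx, rfl⟩, rfl⟩
        refine ⟨g * x * g⁻¹, (hc _).2 (by rwa [show g⁻¹ * (g * x * g⁻¹) * g = x by group]), ?_⟩
        rw [conjS_conjS, conjS_conjS]; congr 1; group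
    ext K
    constructor
    · rintro ⟨⟨x, rfl⟩, hK⟩
      refine ⟨conjS (g⁻¹ * x) I, ⟨⟨_, rfl⟩, ?_⟩, by rw [conjS_conjS, mul_inv_cancel_left]⟩
      rw [show conjS x I = conjS g (conjS (g⁻¹ * x) I) by rw [conjS_conjS, mul_inv_cancel_left], horb,
        Set.ncard_image_of_injective _ (conjS_injective g)] at hK
      exact hK
    · rintro ⟨_, ⟨⟨x, rfl⟩, hK⟩, rfl⟩
      exact ⟨⟨g * x, (conjS_conjS g x I).symm⟩,
        by rw [horb, Set.ncard_image_of_injective _ (conjS_injective g)]; exact hK⟩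
  obtain ⟨b', hb'J, hb'2, hb', hsmall⟩ := hf.small
  obtain ⟨a', ha'J, ha'2, ha', hlarge⟩ := hf.large
  have hbl : ∀ n ∈ ([7, 14, 56] : List ℕ), (lenSet I (centralizer ({b} : Set A)) n).ncard = n := fun n hn =>
    (htr (huniq b' b hb'J hb'2 hbJ hb2 (hb'.trans hb.symm)) n).trans (hsmall n hn)
  have hal : ∀ n ∈ ([5, 32, 40] : List ℕ), (lenSet I (centralizer ({a} : Set A)) n).ncard = n := fun n hn =>
    (htr (huniq a' a ha'J ha'2 haJ ha2 (ha'.trans ha.symm)) n).trans (hlarge n hn)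
  have i56 := c.lenSet_invariant (n := 56) (p := 7) (q := 14) (d := 5376) hls hMs hf.card (by norm_num)
    (hbl 56 (by simp)) (hbl 7 (by simp)) (hbl 14 (by simp)) (by norm_num) (by rw [c.card_H_local]; norm_num)
    (by norm_num)
  have i32 := c.lenSet_invariant (n := 32) (p := 5) (q := 40) (d := 3840) hll hMl hf.card (by norm_num)
    (hal 32 (by simp)) (hal 5 (by simp)) (hal 40 (by simp)) (by norm_num) (by rw [c.card_H_local]; norm_num)
    (by norm_num)
  have i40 := c.lenSet_invariant (n := 40) (p := 5) (q := 32) (d := 3840) hll hMl hf.card (by norm_num)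
    (hal 40 (by simp)) (hal 5 (by simp)) (hal 32 (by simp)) (by norm_num) (by rw [c.card_H_local]; norm_num)
    (by norm_num)
  have horbne : Disjoint (orbS c.H Vl) (orbS c.H Vs) := Set.disjoint_left.2 fun V h h' => by
    rw [← orbS_eq_of_mem h, orbS_eq_of_mem h', hMs] at hMl
    norm_num at hMl
  have hsubk : ∀ (V₀ : Subgroup G) (L : Set (Subgroup A)), c.kindOf V₀ L ⊆ orbS c.H V₀ :=
    fun V₀ L V ⟨h, hh, e, _⟩ => ⟨h, hh, e⟩
  refine ⟨_, _, _, c.kind_of_length hVl hll hMl hf.card (hal 32 (by simp)) i32 (m := 18432) (by norm_num),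
    c.kind_of_length hVl hll hMl hf.card (hal 40 (by simp)) i40 (m := 23040) (by norm_num),
    c.kind_of_length hVs hls hMs hf.card (hbl 56 (by simp)) i56 (m := 5760) (by norm_num),
    c.kindOf_disjoint i32 (Set.disjoint_left.2 fun L h1 h2 => absurd (h1.2.symm.trans h2.2) (by norm_num)),
    horbne.mono (hsubk _ _) (hsubk _ _),
    horbne.mono (hsubk _ _) (hsubk _ _), ?_⟩
  have e : c.Fix₀ = orbS c.H Vl ∪ orbS c.H Vs := by
    ext V
    constructor
    · intro hV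
      obtain ⟨h, hh, e | e⟩ := hcov V hV
      exacts [Or.inr ⟨h, hh, e⟩, Or.inl ⟨h, hh, e⟩]
    · have key : ∀ {V₀}, V₀ ∈ c.Fix₀ → ∀ V ∈ orbS c.H V₀, V ∈ c.Fix₀ := by
        rintro V₀ hV₀ _ ⟨h, hh, rfl⟩
        have e : h⁻¹ * z * h = z := by rw [mul_assoc, ← c.comm_z hh, inv_mul_cancel_left]
        exact ⟨c.Pts_conj hV₀.1 h, by rw [mem_normalizer_conjS, e]; exact hV₀.2.1,
          fun hc => hV₀.2.2 (by rw [mem_conjS, e] at hc; exact hc)⟩
      rintro (h | h)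
      exacts [key hVl V h, key hVs V h]
  rw [e, Set.ncard_union_eq horbne, hMl, hMs]

end CfsgLib.Spor.JFourType.Ctx
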