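import Cfsg.Agent.Lib.Spor.JFourType.Suborbit.Primes
import Cfsg.Agent.Lib.Spor.JFourType.Suborbit.Types
import Cfsg.Agent.Lib.Spor.JFourType.SecondClass
import Cfsg.Agent.Lib.Spor.JFourType.Order.LargeLocal

/-!
# Conjugates of `W` meeting it trivially

If one of them is normalized by an involution of `W` outside the class of `z`, then the inverse suborbit has at least
63 members of that class and none outside it.
-/

set_option autoImplicit false
set_option linter.style.haveILetI false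

namespace CfsgLib.Spor.JFourType

open Subgroup

namespace Suborbit

universe u

variable {G : Type u} [Group G]

/-- An involution centralizes at least the square root of an elementary group it normalizes. -/
theorem card_le_sq_fixed [Finite G] {U : Subgroup G} (hc : ∀ x ∈ U, ∀ y ∈ U, x * y = y * x)
    (h2 : ∀ x ∈ U, x * x = 1) {t : G} (ht : t * t = 1) (hn : t ∈ normalizer (U : Set G)) :
    Nat.card ↥U ≤ Nat.card ↥(U ⊓ centralizer ({t} : Set G) : Subgroup G) *
      Nat.card ↥(U ⊓ centralizer ({t} : Set G) : Subgroup G) := by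
  classical
  have hcl : ∀ x ∈ U, t * x * t⁻¹ ∈ U := fun x hx => (mem_normalizer_iff.1 hn x).1 hx
  let f : ↥U →* G :=
    { toFun := fun x => (x : G) * (t * x * t⁻¹)
      map_one' := by simp
      map_mul' := fun x y => by
        show (x : G) * y * (t * ((x : G) * y) * t⁻¹) = x * (t * x * t⁻¹) * ((y : G) * (t * y * t⁻¹))
        calc (x : G) * y * (t * ((x : G) * y) * t⁻¹) = x * (y * (t * x * t⁻¹)) * (t * y * t⁻¹) := by group
          _ = x * (t * x * t⁻¹ * y) * (t * y * t⁻¹) := by rw [hc _ y.2 _ (hcl _ x.2)]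
          _ = _ := by group }
  set K := U ⊓ centralizer ({t} : Set G) with hK
  have hker : f.ker.map U.subtype ≤ K := by
    rintro _ ⟨x, hx, rfl⟩
    refine mem_inf.2 ⟨x.2, mem_centralizer_singleton_iff.2 ?_⟩
    have h : (x : G) * (t * x * t⁻¹) = 1 := MonoidHom.mem_ker.1 hx
    have h' : t * x * t⁻¹ = (x : G) := by
      rw [eq_inv_of_mul_eq_one_right h]
      exact inv_eq_of_mul_eq_one_right (h2 _ x.2)
    exact (mul_inv_eq_iff_eq_mul.1 h').symm
  have ht' : t⁻¹ = t := inv_eq_of_mul_eq_one_right ht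
  have hrange : f.range ≤ K := by
    rintro _ ⟨x, rfl⟩
    refine mem_inf.2 ⟨mul_mem x.2 (hcl _ x.2), mem_centralizer_singleton_iff.2 ?_⟩
    show (x : G) * (t * x * t⁻¹) * t = t * ((x : G) * (t * x * t⁻¹))
    rw [hc _ x.2 _ (hcl _ x.2)]
    calc t * x * t⁻¹ * x * t = t * ((x : G) * (t * x * t)) := by rw [ht']; group
      _ = t * ((x : G) * (t * x * t⁻¹)) := by rw [ht']
      _ = t * (t * x * t⁻¹ * x) := by rw [hc _ x.2 _ (hcl _ x.2)]
  rw [card_eq_card_quotient_mul_card_subgroup f.ker, Nat.card_congr (QuotientGroup.quotientKerEquivRange f).toEquiv,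
    Nat.card_congr (f.ker.equivMapOfInjective U.subtype U.subtype_injective).toEquiv]
  exact Nat.mul_le_mul (card_le_of_le hrange) (card_le_of_le hker)

end Suborbit

namespace Ctx

open Suborbit

universe u

variable {G : Type u} [Group G] [Finite G] {A : Type} [Group A] {J I R : Subgroup A}
  {z : G} {P : Subgroup G} (c : Ctx J I R z P)
include c

/-- No elementary group is larger than `W`. -/
theorem elementary_le (hs : c.Split) (he : Extra J I R) {V : Subgroup G} (hV : Cfsg.IsElementaryAbelian 2 V) :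
    Nat.card ↥V ≤ 2 ^ 11 := by
  classical
  haveI : Fact (Nat.Prime 2) := ⟨Nat.prime_two⟩
  have hp : IsPGroup 2 ↥V := fun x => ⟨1, by rw [pow_one]; exact Subtype.ext (hV.2 _ x.2)⟩
  obtain ⟨k, hk⟩ := IsPGroup.iff_card.1 hp
  by_contra hlt
  rw [hk, not_le, Nat.pow_lt_pow_iff_right (by norm_num)] at hlt
  obtain ⟨T, hT⟩ := Sylow.exists_subgroup_card_pow_prime (G := ↥V) 2 (n := 11) (hk ▸ pow_dvd_pow 2 hlt.le)
  set V' := T.map V.subtype
  have hV'c : Nat.card ↥V' = 2 ^ 11 := by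
    rw [← Nat.card_congr (T.equivMapOfInjective V.subtype V.subtype_injective).toEquiv, hT]
  have hle : V' ≤ V := map_subtype_le T
  haveI := hV.1
  have hV' : Cfsg.IsElementaryAbelian 2 V' := ⟨⟨⟨fun a b => Subtype.ext (by
    show (a : G) * b = b * a
    exact congrArg Subtype.val (mul_comm' (⟨a, hle a.2⟩ : ↥V) ⟨b, hle b.2⟩))⟩⟩, fun a ha => hV.2 a (hle ha)⟩
  obtain ⟨hsc, -⟩ := c.eleven_normalizer hs he hV' hV'c
  have : V ≤ V' := fun x hx => hsc fun v hv => congrArg Subtype.val (mul_comm' (⟨v, hle hv⟩ : ↥V) ⟨x, hx⟩)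
  have := card_le_of_le this
  rw [hk, hV'c, Nat.pow_le_pow_iff_right (by norm_num)] at this
  omega

theorem sixty_four_le {U : Subgroup G} (hU : U ∈ c.Pts) {t : G} (ht : t * t = 1) (hn : t ∈ normalizer (U : Set G)) :
    64 ≤ Nat.card ↥(U ⊓ centralizer ({t} : Set G) : Subgroup G) := by
  haveI : Fact (Nat.Prime 2) := ⟨Nat.prime_two⟩
  have h := card_le_sq_fixed (fun x hx y hy => c.Pts_comm hU hx hy) (fun x hx => c.Pts_sq hU hx) ht hn
  obtain ⟨k, hk⟩ := IsPGroup.iff_card.1 ((IsPGroup.of_card (n := 11) (c.Pts_card hU) : IsPGroup 2 ↥U).to_le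
    (inf_le_left : U ⊓ centralizer ({t} : Set G) ≤ U))
  rw [c.Pts_card hU, hk, ← pow_add, Nat.pow_le_pow_iff_right (by norm_num)] at h
  rw [hk, show (64 : ℕ) = 2 ^ 6 by norm_num, Nat.pow_le_pow_iff_right (by norm_num)]
  omega

/-- No involution outside the class of `z` on both sides. -/
theorem one_sided (hs : c.Split) (he : Extra J I R) {U : Subgroup G} (hU : U ∈ c.Pts) (hbot : c.W ⊓ U = ⊥)
    {t : G} (ht : t ∈ c.Tset) (htU : t ∈ normalizer (U : Set G)) {u : G} (hu : u ∈ U)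
    (huN : u ∈ normalizer (c.W : Set G)) (h1 : u ≠ 1) : IsConj z u := by
  classical
  by_contra hc
  set A₁ := c.W ⊓ centralizer ({u} : Set G) with hA
  set B₁ := U ⊓ centralizer ({t} : Set G) with hB
  have hAU : A₁ ≤ normalizer (U : Set G) := by
    intro a ha
    obtain ⟨g, hg⟩ := hU
    subst hg
    have hu' := mem_conjS.1 hu
    refine mem_normalizer_conjS.2 (c.cent_Tset_le hs ⟨hu', fun e => h1 ?_, fun h => hc ?_⟩ ?_)
    · calc u = g * (g⁻¹ * u * g) * g⁻¹ := by group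
        _ = 1 := by rw [e]; group
    · exact (c.isConj_z_conj g⁻¹ u).1 (by rwa [inv_inv])
    · rw [mem_centralizer_singleton_iff]
      calc g⁻¹ * a * g * (g⁻¹ * u * g) = g⁻¹ * (a * u) * g := by group
        _ = g⁻¹ * (u * a) * g := by rw [mem_centralizer_singleton_iff.1 (mem_inf.1 ha).2]
        _ = _ := by group
  have hBW : B₁ ≤ normalizer (c.W : Set G) := fun b hb => c.cent_Tset_le hs ht hb.2
  have hcomm : ∀ a ∈ A₁, ∀ b ∈ B₁, a * b = b * a := by
    intro a ha b hb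
    have hmem : a * b * a⁻¹ * b⁻¹ ∈ c.W ⊓ U := by
      refine mem_inf.2 ⟨?_, ?_⟩
      · rw [show a * b * a⁻¹ * b⁻¹ = a * (b * a⁻¹ * b⁻¹) by group]
        exact mul_mem ha.1 ((mem_normalizer_iff.1 (hBW hb) _).1 (inv_mem ha.1))
      · exact mul_mem ((mem_normalizer_iff.1 (hAU ha) _).1 hb.1) (inv_mem hb.1)
    rw [hbot, mem_bot, mul_inv_eq_one] at hmem
    exact mul_inv_eq_iff_eq_mul.1 hmem
  have hn : B₁ ≤ normalizer (A₁ : Set G) := fun b hb => mem_normalizer_fintype fun a ha => by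
    show b * a * b⁻¹ ∈ A₁
    rwa [← hcomm a ha b hb, mul_inv_cancel_right]
  have hinf : B₁ ⊓ A₁ = ⊥ := le_bot_iff.1 (hbot ▸ le_inf (inf_le_right.trans inf_le_left) (inf_le_left.trans inf_le_left))
  have hcard : Nat.card ↥(A₁ ⊔ B₁ : Subgroup G) = Nat.card ↥A₁ * Nat.card ↥B₁ :=
    card_sup_product (K := A₁) (L := B₁) hn (inf_comm A₁ B₁ ▸ hinf)
  have hmem : ∀ x ∈ A₁ ⊔ B₁, ∃ a ∈ A₁, ∃ b ∈ B₁, a * b = x := fun x hx => by
    rw [← SetLike.mem_coe, coe_mul_of_right_le_normalizer_left _ _ hn, Set.mem_mul] at hx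
    exact hx
  have hea : Cfsg.IsElementaryAbelian 2 (A₁ ⊔ B₁ : Subgroup G) := by
    refine ⟨⟨⟨fun x y => Subtype.ext ?_⟩⟩, fun x hx => ?_⟩
    · obtain ⟨a, ha, b, hb, ex⟩ := hmem x x.2
      obtain ⟨a', ha', b', hb', ey⟩ := hmem y y.2
      show (x : G) * y = y * x
      rw [← ex, ← ey]
      calc a * b * (a' * b') = a * (b * a') * b' := by group
        _ = a * (a' * b) * b' := by rw [hcomm a' ha' b hb]
        _ = a * a' * (b * b') := by group
        _ = a' * a * (b' * b) := by rw [c.W_comm ha.1 ha'.1, c.Pts_comm hU hb.1 hb'.1]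
        _ = a' * (a * b') * b := by group
        _ = a' * (b' * a) * b := by rw [hcomm a ha b' hb']
        _ = _ := by group
    · obtain ⟨a, ha, b, hb, rfl⟩ := hmem x hx
      rw [pow_two]
      calc a * b * (a * b) = a * (b * a) * b := by group
        _ = a * (a * b) * b := by rw [hcomm a ha b hb]
        _ = a * a * (b * b) := by group
        _ = 1 := by rw [c.W_sq ha.1, c.Pts_sq hU hb.1, one_mul]
  have h := c.elementary_le hs he hea
  have hA64 := c.sixty_four_le c.W_mem_Pts (c.Pts_sq hU hu) huN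
  have hB64 := c.sixty_four_le hU (c.W_sq ht.1) htU
  rw [hcard] at h
  have := Nat.mul_le_mul hA64 hB64
  rw [← hA, ← hB] at this
  omega

/-- The inverse suborbit of one with an involution outside the class of `z`. -/
theorem inverse_pure (hs : c.Split) (he : Extra J I R) {U : Subgroup G} (hU : U ∈ c.Pts) (hbot : c.W ⊓ U = ⊥)
    {t : G} (ht : t ∈ c.Tset) (htU : t ∈ normalizer (U : Set G)) :
    ∃ U' ∈ c.Pts, c.W ⊓ U' = ⊥ ∧ (∀ x ∈ c.Tset, x ∉ normalizer (U' : Set G)) ∧ 63 ≤ (c.Yset U').ncard := by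
  classical
  obtain ⟨g, hg⟩ := hU
  have hU : U ∈ c.Pts := ⟨g, hg⟩
  have hW : conjS g (conjS g⁻¹ c.W) = c.W := by rw [conjS_conjS, mul_inv_cancel, conjS_one]
  have hto : ∀ {x : G}, x ∈ c.W → g * x * g⁻¹ ∈ U := fun {x} hx => by
    rw [← hg, mem_conjS, show g⁻¹ * (g * x * g⁻¹) * g = x by group]; exact hx
  have hbot' : c.W ⊓ conjS g⁻¹ c.W = ⊥ := by
    rw [eq_bot_iff_forall]
    intro x hx
    have h2 := mem_conjS.1 hx.2
    rw [inv_inv] at h2
    have h : g * x * g⁻¹ ∈ c.W ⊓ U := mem_inf.2 ⟨h2, hto hx.1⟩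
    rw [hbot, mem_bot] at h
    exact conj_eq_one_iff.1 h
  have hpure : ∀ x ∈ c.Tset, x ∉ normalizer (conjS g⁻¹ c.W : Set G) := fun x hx hn => hx.2.2 (by
    rw [mem_normalizer_conjS, inv_inv] at hn
    exact (c.isConj_z_conj g x).1 (c.one_sided hs he hU hbot ht htU (hto hx.1) hn
      fun e => hx.2.1 (conj_eq_one_iff.1 e)))
  refine ⟨conjS g⁻¹ c.W, ⟨g⁻¹, rfl⟩, hbot', hpure, ?_⟩
  have h64 := c.sixty_four_le hU (c.W_sq ht.1) htU
  set B := U ⊓ centralizer ({t} : Set G) with hB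
  have hsub : (fun b => g⁻¹ * b * g) '' ((B : Set G) \ {1}) ⊆ c.Yset (conjS g⁻¹ c.W) := by
    rintro _ ⟨b, ⟨hb, hb1⟩, rfl⟩
    have hbU : g⁻¹ * b * g ∈ c.W := mem_conjS.1 (hg.symm ▸ (mem_inf.1 hb).1)
    have hbN : b ∈ normalizer (c.W : Set G) := c.cent_Tset_le hs ht hb.2
    have e : g * (g⁻¹ * b * g) * g⁻¹ = b := by group
    have hbz := (c.isConj_z_conj g⁻¹ b).2 (c.one_sided hs he hU hbot ht htU hb.1 hbN hb1)
    rw [inv_inv] at hbz
    refine ⟨⟨hbU, hbz⟩, ?_, fun h => hb1 ?_⟩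
    · rw [mem_normalizer_conjS, inv_inv, e]; exact hbN
    · have h' : g⁻¹ * b * g ∈ c.W ⊓ conjS g⁻¹ c.W := mem_inf.2 ⟨hbU, h⟩
      rw [hbot', mem_bot] at h'
      rw [Set.mem_singleton_iff, ← e, h']
      group
  have hinj : Function.Injective fun b => g⁻¹ * b * g := fun a b e => mul_left_cancel (mul_right_cancel e)
  have h := Set.ncard_le_ncard hsub (Set.toFinite _)
  rw [Set.ncard_image_of_injective _ hinj, Set.ncard_sdiff_singleton_of_mem (one_mem B), ← Nat.card_coe_set_eq] at h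
  change Nat.card ↥B - 1 ≤ _ at h
  omega

/-- Without such involutions the members of the class of `z` and `1` form a group. -/
theorem pure_count {U : Subgroup G} (hbot : c.W ⊓ U = ⊥)
    (hpure : ∀ x ∈ c.Tset, x ∉ normalizer (U : Set G)) :
    ∃ a, a ≤ 11 ∧ (c.Yset U).ncard + 1 = 2 ^ a ∧
      Nat.card ↥(c.W ⊓ normalizer (U : Set G) : Subgroup G) = 2 ^ a := by
  classical
  haveI : Fact (Nat.Prime 2) := ⟨Nat.prime_two⟩
  set A₀ := c.W ⊓ normalizer (U : Set G) with hA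
  obtain ⟨a, ha⟩ := IsPGroup.iff_card.1 (c.W_isPGroup.to_le (inf_le_left : A₀ ≤ c.W))
  have hle := card_le_of_le (inf_le_left : A₀ ≤ c.W)
  rw [ha, c.card_W, Nat.pow_le_pow_iff_right (by norm_num)] at hle
  refine ⟨a, hle, ?_, ha⟩
  have hmem1 : (1 : G) ∉ c.Yset U := fun h => c.not_isConj_z_one h.1.2
  rw [← ha, show Nat.card ↥A₀ = (A₀ : Set G).ncard from Nat.card_coe_set_eq _, ← Set.ncard_insert_of_notMem hmem1]
  congr 1
  ext x
  constructor
  · rintro (rfl | ⟨hx, hn, -⟩)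
    · exact one_mem _
    · exact mem_inf.2 ⟨hx.1, hn⟩
  · intro hx
    by_cases h1 : x = 1
    · exact Or.inl h1
    · refine Or.inr ⟨⟨hx.1, ?_⟩, hx.2, fun hxU => h1 ?_⟩
      · by_contra hc
        exact hpure x ⟨hx.1, h1, hc⟩ hx.2
      · have h : x ∈ c.W ⊓ U := mem_inf.2 ⟨hx.1, hxU⟩
        rwa [hbot, mem_bot] at h

end Ctx

end CfsgLib.Spor.JFourType
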