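import Mathlib

/-!
# Four-groups of the symmetric group of degree five normalized by the centralizers of their elements
-/

set_option autoImplicit false
set_option synthInstance.maxSize 1024
set_option synthInstance.maxHeartbeats 200000

namespace CfsgLib.Spor.JFourType.Suborbit

open Equiv

/-- The centralizer of `a` keeps the set `{a, b, a * b}`. -/
def Keeps (a b : Perm (Fin 5)) : Prop := ∀ x, x * a = a * x → x * b = b * x ∨ x * b = a * b * x

instance (a b : Perm (Fin 5)) : Decidable (Keeps a b) := by unfold Keeps; infer_instance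

/-- Such a pair fixes a common point, and both move the four others. -/
theorem keeps_point : ∀ a : Perm (Fin 5), a * a = 1 → a ≠ 1 → ∀ b : Perm (Fin 5), b * b = 1 → b ≠ 1 → b ≠ a →
    a * b = b * a → Keeps a b → Keeps b a → ∃ j, a j = j ∧ b j = j ∧ ∀ k, k ≠ j → a k ≠ k ∧ b k ≠ k := by
  decide +kernel

/-- Only three involutions move exactly the points other than a given one. -/
theorem point_span : ∀ (j : Fin 5) (a : Perm (Fin 5)), a j = j → a * a = 1 → (∀ k, k ≠ j → a k ≠ k) →
    ∀ b : Perm (Fin 5), b j = j → b * b = 1 → (∀ k, k ≠ j → b k ≠ k) → b ≠ a →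
      ∀ d : Perm (Fin 5), d j = j → d * d = 1 → (∀ k, k ≠ j → d k ≠ k) → d = a ∨ d = b ∨ d = a * b := by
  decide +kernel

/-- The centralizer of one of them is transitive on the other points. -/
theorem point_trans : ∀ (j : Fin 5) (a : Perm (Fin 5)), a j = j → a * a = 1 → (∀ k, k ≠ j → a k ≠ k) →
    ∀ j₁ j₂ : Fin 5, j₁ ≠ j → j₂ ≠ j → ∃ x : Perm (Fin 5), x * a = a * x ∧ x j₁ = j₂ := by
  decide +kernel

end CfsgLib.Spor.JFourType.Suborbit
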