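import Cfsg.Agent.Lib.Spor.JFourType.Suborbit.ShareOrbits
import Cfsg.Agent.Lib.Spor.JFourType.Suborbit.PermFour
import Cfsg.Agent.Lib.Spor.JFourType.SevenLocal
import Cfsg.Agent.Lib.Spor.JFourType.FiveStructure
import Cfsg.Agent.Lib.Spor.JFourType.EleM
import Cfsg.Agent.Lib.Spor.JFourType.LocalThree

/-!
# Elements of odd order normalizing two conjugates of `W`

Order five brings a conjugate of `z` normalizing both; orders seven and twenty-seven force the two to meet; order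
eleven leaves only one possible order of a stabilizer.
-/

set_option autoImplicit false
set_option linter.style.haveILetI false

namespace CfsgLib.Spor.JFourType

open Subgroup

namespace Suborbit

universe u

variable {G : Type u} [Group G]

/-- Elements of order `p` of a subgroup with Sylow subgroups of order `p` are conjugate up to powers. -/
theorem exists_conj_pow [Finite G] {p : ℕ} [Fact p.Prime] {K : Subgroup G} (h2 : ¬ p ^ 2 ∣ Nat.card ↥K) {y y₀ : G}
    (hy : y ∈ K) (hy₀ : y₀ ∈ K) (ho : orderOf y = p) (ho₀ : orderOf y₀ = p) :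
    ∃ n ∈ K, ∃ i : ℕ, ¬ p ∣ i ∧ n * y₀ ^ i * n⁻¹ = y := by
  classical
  have hp : p.Prime := Fact.out
  have hfac : (Nat.card ↥K).factorization p = 1 := by
    have hd : p ∣ Nat.card ↥K := ho₀ ▸ K.orderOf_dvd_natCard hy₀
    have h1 := (hp.dvd_iff_one_le_factorization Nat.card_pos.ne').1 hd
    by_contra hne
    exact h2 ((hp.pow_dvd_iff_le_factorization Nat.card_pos.ne').2 (by omega))
  let T : Sylow p ↥K := Sylow.ofCard (zpowers ⟨y₀, hy₀⟩) (by rw [Nat.card_zpowers, Subgroup.orderOf_mk, ho₀, hfac, pow_one])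
  obtain ⟨j, hj⟩ := CfsgLib.Invol.exists_conj_le_sylow (Q := zpowers (⟨y, hy⟩ : ↥K))
    (IsPGroup.of_card (n := 1) (by rw [Nat.card_zpowers, Subgroup.orderOf_mk, ho, pow_one])) T
  obtain ⟨i, hi⟩ := mem_powers_iff_mem_zpowers.2
    (show j * ⟨y, hy⟩ * j⁻¹ ∈ zpowers (⟨y₀, hy₀⟩ : ↥K) from hj _ (mem_zpowers _))
  have hi' : y₀ ^ i = (j : G) * y * (j : G)⁻¹ := congrArg Subtype.val hi
  refine ⟨(j : G)⁻¹, inv_mem j.2, i, fun hd => ?_, by rw [hi']; group⟩
  obtain ⟨k, rfl⟩ := hd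
  rw [pow_mul, ← ho₀, pow_orderOf_eq_one, one_pow] at hi'
  have h1 : y = 1 := conj_eq_one_iff.1 hi'.symm
  rw [h1, orderOf_one] at ho
  exact hp.one_lt.ne ho

/-- A `p`-group fixes a nontrivial element of a group it normalizes unless the order is one modulo `p`. -/
theorem exists_fixed_ne_one [Finite G] {p : ℕ} [Fact p.Prime] {R S : Subgroup G} (hR : IsPGroup p ↥R)
    (hn : R ≤ normalizer (S : Set G)) (h1 : Nat.card ↥S % p ≠ 1) : ∃ s ∈ S, s ≠ 1 ∧ ∀ r ∈ R, r * s = s * r := by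
  by_contra hcon
  push Not at hcon
  letI act : MulAction ↥R ↥S :=
    { smul := fun r a => ⟨(r : G) * a * (r : G)⁻¹, (mem_normalizer_iff.1 (hn r.2) a).1 a.2⟩
      one_smul := fun a => Subtype.ext (by
        show (1 : G) * a * (1 : G)⁻¹ = a
        rw [one_mul, inv_one, mul_one])
      mul_smul := fun g h a => Subtype.ext (by
        show ((g : G) * h) * a * ((g : G) * h)⁻¹ = g * ((h : G) * a * (h : G)⁻¹) * (g : G)⁻¹
        group) }
  have h := hR.card_modEq_card_fixedPoints ↥S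
  have hone : MulAction.fixedPoints ↥R ↥S = {1} := by
    ext a
    refine ⟨fun ha => ?_, fun ha r => ?_⟩
    · by_contra hne
      obtain ⟨r, hr, hrne⟩ := hcon a a.2 fun e => hne (Subtype.ext e)
      exact hrne (mul_inv_eq_iff_eq_mul.1 (congrArg Subtype.val (ha ⟨r, hr⟩)))
    · rw [Set.mem_singleton_iff] at ha
      subst ha
      exact Subtype.ext (by show (r : G) * 1 * (r : G)⁻¹ = 1; rw [mul_one, mul_inv_cancel])
  rw [hone, Nat.card_coe_set_eq, Set.ncard_singleton, Nat.ModEq, Nat.mod_eq_of_lt (Fact.out : p.Prime).one_lt] at h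
  exact h1 h

theorem orderOf_conj' {g y : G} : orderOf (g⁻¹ * y * g) = orderOf y := by
  have h := MulEquiv.orderOf_eq (MulAut.conj g⁻¹) y
  rwa [MulAut.conj_apply, inv_inv] at h

end Suborbit

namespace Ctx

open Suborbit

universe u

variable {G : Type u} [Group G] [Finite G] {A : Type} [Group A] {J I R : Subgroup A}
  {z : G} {P : Subgroup G} (c : Ctx J I R z P)
include c

theorem card_NW (hs : c.Split) (he : Extra J I R) : Nat.card ↥(normalizer (c.W : Set G)) = 501397585920 := by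
  rw [c.card_normalizer_W hs he.card_NI]; norm_num

theorem card_NH_W (hs : c.Split) (he : Extra J I R) :
    Nat.card ↥(normalizer (c.W : Set G) ⊓ c.H : Subgroup G) = 283115520 := by
  have h := ncard_orbit_mul (normalizer (c.W : Set G)) z
  rw [c.orbit_z hs, hs.card_conj, c.card_NW hs he] at h
  show Nat.card ↥(normalizer (c.W : Set G) ⊓ centralizer ({z} : Set G) : Subgroup G) = _
  omega

/-- A common element outside the class of `z` identifies two conjugates of `W`. -/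
theorem Pts_eq_of_shared (hs : c.Split) {U V : Subgroup G} (hU : U ∈ c.Pts) (hV : V ∈ c.Pts) {u : G} (h1 : u ≠ 1)
    (hc : ¬ IsConj z u) (huU : u ∈ U) (huV : u ∈ V) : U = V := by
  obtain ⟨g, rfl⟩ := hU
  have ht : g⁻¹ * u * g ∈ c.Tset := ⟨mem_conjS.1 huU, fun e => h1 (by
    calc u = g * (g⁻¹ * u * g) * g⁻¹ := by group
      _ = 1 := by rw [e]; group), fun h => hc ((c.isConj_z_conj g⁻¹ u).1 (by rwa [inv_inv]))⟩
  have h := c.eq_W_of_Tset hs (c.Pts_conj hV g⁻¹) ht (by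
    rw [mem_conjS, show g⁻¹⁻¹ * (g⁻¹ * u * g) * g⁻¹ = u by group]
    exact huV)
  have e := congrArg (conjS g) h
  rw [conjS_conjS, mul_inv_cancel, conjS_one] at e
  exact e.symm

/-! ### Order five -/

/-- An element of order five of `N(W)` commutes with a conjugate of `z` in `W` normalizing any given fixed
conjugate of `W`. -/
theorem five_Zw (hs : c.Split) (he : Extra J I R) (F : FiveSeven J I R) {y : G}
    (hy : y ∈ normalizer (c.W : Set G)) (ho : orderOf y = 5) {U : Subgroup G} (hU : U ∈ c.Pts)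
    (hyU : y ∈ normalizer (U : Set G)) : ∃ w ∈ c.Zw, w ∈ normalizer (U : Set G) ∧ w * y = y * w := by
  haveI : Fact (Nat.Prime 5) := ⟨by norm_num⟩
  obtain ⟨g, rfl⟩ := hU
  obtain ⟨x, n, s, h₀, f, hh₀, him, -, -⟩ := c.exists_fiveFull F
  have huN : h₀⁻¹ * x * h₀ ∈ normalizer (c.W : Set G) :=
    c.normW_of_im (mul_mem (mul_mem (inv_mem hh₀.1) f.xH) hh₀.1) him
  have huo : orderOf (h₀⁻¹ * x * h₀) = 5 := orderOf_conj'.trans f.base.ord_x
  have h25 : ¬ 5 ^ 2 ∣ Nat.card ↥(normalizer (c.W : Set G)) := by rw [c.card_NW hs he]; norm_num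
  have key : ∀ {w : G}, w ∈ normalizer (c.W : Set G) → orderOf w = 5 → ∃ m ∈ normalizer (c.W : Set G), ∃ h ∈ c.H,
      m * h₀⁻¹ * h⁻¹ * x * (m * h₀⁻¹ * h⁻¹)⁻¹ = w := by
    intro w hw hwo
    obtain ⟨m, hm, i, hi, e⟩ := exists_conj_pow h25 hw huN hwo huo
    obtain ⟨h, hh, eh⟩ := f.base.exists_back hi
    refine ⟨m, hm, h, hh, ?_⟩
    calc m * h₀⁻¹ * h⁻¹ * x * (m * h₀⁻¹ * h⁻¹)⁻¹ = m * h₀⁻¹ * (h⁻¹ * x * h) * h₀ * m⁻¹ := by group
      _ = m * h₀⁻¹ * x ^ i * h₀ * m⁻¹ := by nth_rewrite 1 [← eh]; group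
      _ = m * (h₀⁻¹ * x * h₀) ^ i * m⁻¹ := by
        rw [show h₀⁻¹ * x * h₀ = h₀⁻¹ * x * h₀⁻¹⁻¹ by rw [inv_inv], conj_pow]; group
      _ = w := e
  obtain ⟨m, hm, h, hh, ea⟩ := key hy ho
  obtain ⟨m', hm', h', hh', eb⟩ := key (mem_normalizer_conjS.1 hyU) (orderOf_conj'.trans ho)
  set a := m * h₀⁻¹ * h⁻¹ with ha
  set b := g * (m' * h₀⁻¹ * h'⁻¹) with hb
  have eb' : b * x * b⁻¹ = y := by
    calc b * x * b⁻¹ = g * (m' * h₀⁻¹ * h'⁻¹ * x * (m' * h₀⁻¹ * h'⁻¹)⁻¹) * g⁻¹ := by rw [hb]; group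
      _ = _ := by rw [eb]; group
  set e := a⁻¹ * b with he'
  have hex : e * x = x * e := by
    calc e * x = a⁻¹ * (b * x * b⁻¹) * b := by rw [he']; group
      _ = a⁻¹ * (a * x * a⁻¹) * b := by rw [eb', ea]
      _ = _ := by rw [he']; group
  have hzB : e⁻¹ * z * e ∈ c.lift c.KR :=
    (mem_normalizer_iff''.1 (f.cent_norm hs hex) z).1 (c.z_mem_lift _)
  refine ⟨a * z * a⁻¹, ?_, ?_, ?_⟩
  · have ez : a * z * a⁻¹ = m * z * m⁻¹ := by
      rw [ha]
      calc m * h₀⁻¹ * h⁻¹ * z * (m * h₀⁻¹ * h⁻¹)⁻¹ = m * (h₀⁻¹ * (h⁻¹ * (z * h)) * h₀) * m⁻¹ := by group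
        _ = m * (h₀⁻¹ * (z * h₀)) * m⁻¹ := by rw [← c.comm_z hh, inv_mul_cancel_left]; group
        _ = m * z * m⁻¹ := by rw [← c.comm_z hh₀.1, inv_mul_cancel_left]
    exact ⟨ez ▸ (mem_normalizer_iff.1 hm z).1 c.z_mem_W', (c.isConj_z_conj a z).2 (IsConj.refl z)⟩
  · have hE : ∀ q ∈ c.E, q ∈ normalizer (c.W : Set G) := fun q hq =>
      mem_normalizer_fintype fun w hw => c.conj_W_E hq hw
    have e' : (m' * h₀⁻¹ * h'⁻¹)⁻¹ = h' * h₀ * m'⁻¹ := by group
    rw [mem_normalizer_conjS, show g⁻¹ * (a * z * a⁻¹) * g =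
      m' * ((h' * h₀)⁻¹ * (e⁻¹ * z * e) * (h' * h₀)) * m'⁻¹ by rw [he', hb]; group]
    exact mul_mem (mul_mem hm' (hE _ (c.conj_E' (mul_mem hh' hh₀.1) hzB.1))) (inv_mem hm')
  · rw [← ea]
    calc a * z * a⁻¹ * (a * x * a⁻¹) = a * (z * x) * a⁻¹ := by group
      _ = a * (x * z) * a⁻¹ := by rw [c.comm_z f.xH]
      _ = _ := by group

/-! ### Order seven -/

/-- An element of order seven of `N(W)` commutes with no conjugate of `z` in `W`. -/
theorem seven_not_z (hs : c.Split) (he : Extra J I R) {y w : G} (hy : y ∈ normalizer (c.W : Set G))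
    (ho : orderOf y = 7) (hw : w ∈ c.W) (hc : IsConj z w) : ¬ w * y = y * w := by
  intro hwy
  obtain ⟨n, hn, rfl⟩ := hs.fusion w hw hc
  have h7 : 7 ∣ Nat.card ↥(normalizer (c.W : Set G) ⊓ c.H : Subgroup G) := by
    rw [← ho, ← orderOf_conj' (g := n)]
    refine Subgroup.orderOf_dvd_natCard _ (mem_inf.2 ⟨mul_mem (mul_mem (inv_mem hn) hy) hn,
      mem_centralizer_singleton_iff.2 ?_⟩)
    calc n⁻¹ * y * n * z = n⁻¹ * (y * (n * z * n⁻¹)) * n := by group
      _ = n⁻¹ * (n * z * n⁻¹ * y) * n := by rw [hwy]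
      _ = _ := by group
  rw [c.card_NH_W hs he] at h7
  norm_num at h7

/-- The fixed four-group of an element of order seven on a conjugate of `W`, as a point of five. -/
theorem seven_point (hs : c.Split) (he : Extra J I R) {y : G} (ho : orderOf y = 7) {T : Subgroup G}
    (hT : Cfsg.IsInternalDirectProduct (zpowers y) T (centralizer (zpowers y : Set G)))
    (iso : ↥T ≃* Equiv.Perm (Fin 5)) {U : Subgroup G} (hU : U ∈ c.Pts) (hyU : y ∈ normalizer (U : Set G)) :
    ∃ a b : ↥T, ∃ j : Fin 5, (a : G) ∈ U ∧ (b : G) ∈ U ∧ b ≠ a ∧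
      (∀ q ∈ ({a, b, a * b} : Set ↥T), (q : G) ∈ U ∧ q ≠ 1 ∧ ¬ IsConj z (q : G) ∧
        centralizer ({(q : G)} : Set G) ≤ normalizer (U : Set G)) ∧
      iso a * iso a = 1 ∧ iso b * iso b = 1 ∧ iso a j = j ∧ iso b j = j ∧
      ∀ k, k ≠ j → iso a k ≠ k ∧ iso b k ≠ k := by
  classical
  haveI : Fact (Nat.Prime 7) := ⟨by norm_num⟩
  obtain ⟨g, rfl⟩ := hU
  set U := conjS g c.W with hUdef
  have hU : U ∈ c.Pts := ⟨g, rfl⟩
  obtain ⟨hyT, hTC, hcomm, hbot, hsup⟩ := hT
  set D := U ⊓ centralizer ({y} : Set G) with hD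
  have hpure : ∀ u ∈ U, u * y = y * u → u ≠ 1 → ¬ IsConj z u ∧
      centralizer ({u} : Set G) ≤ normalizer (U : Set G) := by
    intro u hu huy h1
    have hu' := mem_conjS.1 hu
    have hyg := mem_normalizer_conjS.1 hyU
    have hnc : ¬ IsConj z u := fun hc => c.seven_not_z hs he hyg (orderOf_conj'.trans ho) hu'
      (by have h := (c.isConj_z_conj g⁻¹ u).2 hc; rwa [inv_inv] at h) (by
        calc g⁻¹ * u * g * (g⁻¹ * y * g) = g⁻¹ * (u * y) * g := by group
          _ = g⁻¹ * (y * u) * g := by rw [huy]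
          _ = _ := by group)
    refine ⟨hnc, fun v hv => mem_normalizer_conjS.2 (c.cent_Tset_le hs ⟨hu', fun e => h1 ?_, fun hc => hnc ?_⟩ ?_)⟩
    · calc u = g * (g⁻¹ * u * g) * g⁻¹ := by group
        _ = 1 := by rw [e]; group
    · exact (c.isConj_z_conj g⁻¹ u).1 (by rwa [inv_inv])
    · rw [mem_centralizer_singleton_iff]
      calc g⁻¹ * v * g * (g⁻¹ * u * g) = g⁻¹ * (v * u) * g := by group
        _ = g⁻¹ * (u * v) * g := by rw [mem_centralizer_singleton_iff.1 hv]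
        _ = _ := by group
  have hcs : centralizer (zpowers y : Set G) = centralizer ({y} : Set G) := by
    rw [zpowers_eq_closure, centralizer_closure]
  -- involutions commuting with `y` lie in the factor
  have hDT : D ≤ T := by
    intro u hu
    haveI : T.Normal → True := fun _ => trivial
    have hu2 : u * u = 1 := c.Pts_sq hU hu.1
    have hus : u ∈ zpowers y ⊔ T := by rw [hsup, hcs]; exact hu.2
    have hn : T ≤ normalizer (zpowers y : Set G) := fun t ht => mem_normalizer_fintype fun v hv => by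
      show t * v * t⁻¹ ∈ zpowers y
      rwa [← hcomm v hv t ht, mul_inv_cancel_right]
    rw [← SetLike.mem_coe, coe_mul_of_right_le_normalizer_left _ _ hn, Set.mem_mul] at hus
    obtain ⟨v, hv, t, ht, rfl⟩ := hus
    have hv2 : v * v ∈ zpowers y ⊓ T := by
      refine mem_inf.2 ⟨mul_mem hv hv, ?_⟩
      have e : v * v = (t * t)⁻¹ := eq_inv_of_mul_eq_one_left (by
        calc v * v * (t * t) = v * (v * t) * t := by group
          _ = v * (t * v) * t := by rw [hcomm v hv t ht]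
          _ = v * t * (v * t) := by group
          _ = 1 := hu2)
      rw [e]
      exact inv_mem (mul_mem ht ht)
    rw [hbot, mem_bot] at hv2
    have h7 : orderOf v ∣ 7 := ho ▸ orderOf_dvd_of_mem_zpowers hv
    have h2 : orderOf v ∣ 2 := orderOf_dvd_of_pow_eq_one (by rw [pow_two, hv2])
    have h1 : v = 1 := orderOf_eq_one_iff.1 (Nat.dvd_one.1 ((Nat.dvd_gcd h7 h2).trans (by norm_num)))
    rwa [h1, one_mul]
  have hD4 : Nat.card ↥D = 4 := by
    have hm := card_conj_fixed_mod (p := 7) (w := y) (by rw [← ho, pow_orderOf_eq_one]) hyU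
    rw [c.Pts_card hU] at hm
    have hd := card_dvd_of_le hDT
    rw [Nat.card_congr iso.toEquiv, card_perm_five] at hd
    obtain ⟨k, hk⟩ := IsPGroup.iff_card.1 ((IsPGroup.of_card (n := 11) (c.Pts_card hU) : IsPGroup 2 ↥U).to_le
      (inf_le_left : D ≤ U))
    rw [← hD, hk] at hm
    rw [hk] at hd ⊢
    have hk3 : k ≤ 3 := by
      by_contra hcon
      have := (Nat.pow_dvd_pow 2 (show 4 ≤ k by omega)).trans hd
      norm_num at this
    interval_cases k <;> omega
  obtain ⟨a, ha, ha1⟩ := D.bot_or_exists_ne_one.resolve_left fun e => by rw [e, Subgroup.card_bot] at hD4; omega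
  obtain ⟨b, hb, hb1, hba⟩ : ∃ b ∈ D, b ≠ 1 ∧ b ≠ a := by
    by_contra hcon
    push Not at hcon
    have h := Set.ncard_le_ncard (s := (D : Set G)) (t := ({1, a} : Set G)) (fun v hv => by
      by_cases h1 : v = 1
      · simp [h1]
      · simp [hcon v hv h1]) (Set.toFinite _)
    rw [← Nat.card_coe_set_eq] at h
    have := Set.ncard_insert_le (1 : G) {a}
    rw [Set.ncard_singleton] at this
    rw [show Nat.card ↥(D : Set G) = Nat.card ↥D from rfl, hD4] at h
    omega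
  have ha2 := c.Pts_sq hU ha.1
  have hb2 := c.Pts_sq hU hb.1
  have hab := c.Pts_comm hU ha.1 hb.1
  have habne : a * b ≠ 1 := fun e => hba (by rw [← mul_right_inj a, e, ha2])
  have hDset : (D : Set G) = {1, a, b, a * b} := by
    refine (Set.eq_of_subset_of_ncard_le ?_ ?_ (Set.toFinite _)).symm
    · rintro v (rfl | rfl | rfl | rfl)
      exacts [one_mem _, ha, hb, mul_mem ha hb]
    · rw [← Nat.card_coe_set_eq, show Nat.card ↥(D : Set G) = Nat.card ↥D from rfl, hD4,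
        Set.ncard_insert_of_notMem (by simp [Ne.symm ha1, Ne.symm hb1, Ne.symm habne]) (Set.toFinite _),
        Set.ncard_insert_of_notMem (by simp [Ne.symm hba, hb1]) (Set.toFinite _),
        Set.ncard_insert_of_notMem (by simp [ha1]) (Set.toFinite _), Set.ncard_singleton]
  set a' : ↥T := ⟨a, hDT ha⟩ with ha'
  set b' : ↥T := ⟨b, hDT hb⟩ with hb'
  -- the centralizer of a member keeps the four-group
  have hkeep : ∀ {p q : ↥T}, (p : G) ∈ D → (q : G) ∈ D → (p : G) ≠ 1 → (q : G) ≠ 1 → q ≠ p →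
      (∀ v ∈ D, v ≠ 1 → v ≠ (p : G) → v = q ∨ v = (p : G) * q) → Keeps (iso p) (iso q) := by
    intro p q hp hq hp1 hq1 hqp hcases x hx
    obtain ⟨τ, rfl⟩ := iso.surjective x
    rw [← map_mul, ← map_mul] at hx
    have hτp : (τ : G) * p = (p : G) * τ := congrArg Subtype.val (iso.injective hx)
    have hτU := (hpure p hp.1 (mem_centralizer_singleton_iff.1 hp.2) hp1).2
      (mem_centralizer_singleton_iff.2 hτp)
    have hτy : (τ : G) * y = y * τ := (hcomm y (mem_zpowers y) τ τ.2).symm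
    have hm : (τ : G) * q * (τ : G)⁻¹ ∈ D := by
      refine ⟨(mem_normalizer_iff.1 hτU _).1 hq.1, mem_centralizer_singleton_iff.2 ?_⟩
      have hc1 : Commute (τ : G) y := hτy
      exact ((hc1.mul_left (mem_centralizer_singleton_iff.1 hq.2)).mul_left hc1.inv_left).eq
    rcases hcases _ hm (fun e => hq1 (conj_eq_one_iff.1 e)) (fun e => hqp (Subtype.ext (by
      have e2 : (τ : G) * q * (τ : G)⁻¹ = τ * p * (τ : G)⁻¹ := by rw [e, hτp, mul_inv_cancel_right]
      exact mul_left_cancel (mul_right_cancel e2)))) with e | e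
    · exact Or.inl (by rw [← map_mul, ← map_mul]; exact congrArg iso (Subtype.ext (mul_inv_eq_iff_eq_mul.1 e)))
    · exact Or.inr (by
        rw [← map_mul, ← map_mul, ← map_mul]
        exact congrArg iso (Subtype.ext (mul_inv_eq_iff_eq_mul.1 e)))
  have hsq : ∀ {p : ↥T}, (p : G) * p = 1 → iso p * iso p = 1 := fun {p} e => by
    rw [← map_mul, show p * p = 1 from Subtype.ext e, map_one]
  have hne : ∀ {p : ↥T}, (p : G) ≠ 1 → iso p ≠ 1 := fun {p} h e => h (by
    rw [← map_one iso] at e; exact congrArg Subtype.val (iso.injective e))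
  have hmem : ∀ v ∈ D, v ≠ 1 → v = a ∨ v = b ∨ v = a * b := fun v hv h1 => by
    rw [← SetLike.mem_coe, hDset] at hv
    simpa [h1] using hv
  have hba' : b' ≠ a' := fun e => hba (congrArg Subtype.val e)
  obtain ⟨j, hja, hjb, hmove⟩ := keeps_point (iso a') (hsq ha2) (hne ha1) (iso b') (hsq hb2) (hne hb1)
    (fun e => hba' (iso.injective e)) (by rw [← map_mul, ← map_mul]; exact congrArg iso (Subtype.ext hab))
    (hkeep ha hb ha1 hb1 hba' fun v hv h1 hne => (hmem v hv h1).resolve_left hne)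
    (hkeep hb ha hb1 ha1 hba'.symm fun v hv h1 hne => by
      rcases hmem v hv h1 with h | h | h
      exacts [Or.inl h, absurd h hne, Or.inr (h.trans hab)])
  refine ⟨a', b', j, ha.1, hb.1, hba', ?_, hsq ha2, hsq hb2, hja, hjb, hmove⟩
  rintro q (rfl | rfl | rfl)
  exacts [⟨ha.1, fun e => ha1 (congrArg Subtype.val e), hpure a ha.1 (mem_centralizer_singleton_iff.1 ha.2) ha1⟩,
    ⟨hb.1, fun e => hb1 (congrArg Subtype.val e), hpure b hb.1 (mem_centralizer_singleton_iff.1 hb.2) hb1⟩,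
    ⟨mul_mem ha.1 hb.1, fun e => habne (congrArg Subtype.val e),
      hpure (a * b) (mul_mem ha.1 hb.1) (mem_centralizer_singleton_iff.1 (mul_mem ha.2 hb.2)) habne⟩]

/-- The conjugates other than `W` fixed by an element of order seven form part of one orbit. -/
theorem seven_orbit (hs : c.Split) (he : Extra J I R) (F : FiveSeven J I R) {y : G}
    (hy : y ∈ normalizer (c.W : Set G)) (ho : orderOf y = 7) {U V : Subgroup G} (hU : U ∈ c.Pts) (hV : V ∈ c.Pts)
    (hUne : U ≠ c.W) (hVne : V ≠ c.W) (hyU : y ∈ normalizer (U : Set G)) (hyV : y ∈ normalizer (V : Set G)) :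
    V ∈ orbS (normalizer (c.W : Set G)) U := by
  classical
  obtain ⟨T, hT, ⟨iso⟩⟩ := ((c.seven_local hs F he).2 y ho).prod
  obtain ⟨a₀, b₀, j₀, -, -, hn₀, hD₀, sa₀, sb₀, ja₀, jb₀, hm₀⟩ := c.seven_point hs he ho hT iso c.W_mem_Pts hy
  obtain ⟨a₁, b₁, j₁, -, -, hn₁, hD₁, sa₁, sb₁, ja₁, jb₁, hm₁⟩ := c.seven_point hs he ho hT iso hU hyU
  obtain ⟨a₂, b₂, j₂, -, -, hn₂, hD₂, sa₂, sb₂, ja₂, jb₂, hm₂⟩ := c.seven_point hs he ho hT iso hV hyV
  -- distinct conjugates give distinct points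
  have hne : ∀ {U' : Subgroup G} {a : ↥T} {j : Fin 5}, U' ∈ c.Pts → U' ≠ c.W → (a : G) ∈ U' →
      iso a * iso a = 1 → iso a j = j → (∀ k, k ≠ j → iso a k ≠ k) → j ≠ j₀ := by
    rintro U' a j hU' hU'ne haU sa ja hm rfl
    have h := point_span j (iso a₀) ja₀ sa₀ (fun k hk => (hm₀ k hk).1) (iso b₀) jb₀ sb₀ (fun k hk => (hm₀ k hk).2)
      (fun e => hn₀ (iso.injective e)) (iso a) ja sa hm
    have hq : a ∈ ({a₀, b₀, a₀ * b₀} : Set ↥T) := by
      rcases h with e | e | e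
      · exact Or.inl (iso.injective e)
      · exact Or.inr (Or.inl (iso.injective e))
      · rw [← map_mul] at e; exact Or.inr (Or.inr (iso.injective e))
    obtain ⟨haW, ha1, hanc, -⟩ := hD₀ a hq
    exact hU'ne (c.Pts_eq_of_shared hs hU' c.W_mem_Pts (fun e => ha1 (Subtype.ext e)) hanc haU haW)
  have hj₁ := hne hU hUne (hD₁ a₁ (Or.inl rfl)).1 sa₁ ja₁ fun k hk => (hm₁ k hk).1
  have hj₂ := hne hV hVne (hD₂ a₂ (Or.inl rfl)).1 sa₂ ja₂ fun k hk => (hm₂ k hk).1
  obtain ⟨x, hxa, hxj⟩ := point_trans j₀ (iso a₀) ja₀ sa₀ (fun k hk => (hm₀ k hk).1) j₁ j₂ hj₁ hj₂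
  obtain ⟨τ, rfl⟩ := iso.surjective x
  rw [← map_mul, ← map_mul] at hxa
  have hτN : (τ : G) ∈ normalizer (c.W : Set G) := (hD₀ a₀ (Or.inl rfl)).2.2.2
    (mem_centralizer_singleton_iff.2 (congrArg Subtype.val (iso.injective hxa)))
  refine ⟨τ, hτN, ?_⟩
  set q := τ * a₁ * τ⁻¹ with hq'
  have hqi : iso q = iso τ * iso a₁ * (iso τ)⁻¹ := by rw [hq', map_mul, map_mul, map_inv]
  have hinv : ∀ k, (iso τ)⁻¹ (iso τ k) = k := fun k => (iso τ).symm_apply_apply k
  have hsq : iso q * iso q = 1 := by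
    rw [hqi, show iso τ * iso a₁ * (iso τ)⁻¹ * (iso τ * iso a₁ * (iso τ)⁻¹) =
      iso τ * (iso a₁ * iso a₁) * (iso τ)⁻¹ by group, sa₁, mul_one, mul_inv_cancel]
  have hqj : iso q j₂ = j₂ := by
    rw [hqi, ← hxj, Equiv.Perm.mul_apply, Equiv.Perm.mul_apply, hinv, ja₁]
  have hqm : ∀ k, k ≠ j₂ → iso q k ≠ k := by
    intro k hk e
    rw [hqi, Equiv.Perm.mul_apply, Equiv.Perm.mul_apply] at e
    refine (hm₁ ((iso τ)⁻¹ k) fun h => hk ?_).1 ?_
    · rw [← hxj, ← h]
      exact ((iso τ).apply_symm_apply k).symm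
    · exact ((iso τ).symm_apply_apply _).symm.trans (congrArg (iso τ).symm e)
  have h := point_span j₂ (iso a₂) ja₂ sa₂ (fun k hk => (hm₂ k hk).1) (iso b₂) jb₂ sb₂ (fun k hk => (hm₂ k hk).2)
    (fun e => hn₂ (iso.injective e)) (iso q) hqj hsq hqm
  have hqV : q ∈ ({a₂, b₂, a₂ * b₂} : Set ↥T) := by
    rcases h with e | e | e
    · exact Or.inl (iso.injective e)
    · exact Or.inr (Or.inl (iso.injective e))
    · rw [← map_mul] at e; exact Or.inr (Or.inr (iso.injective e))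
  obtain ⟨hqVm, hq1, hqnc, -⟩ := hD₂ q hqV
  refine c.Pts_eq_of_shared hs (c.Pts_conj hU _) hV (fun e => hq1 (Subtype.ext e)) hqnc ?_ hqVm
  rw [mem_conjS, hq', show (τ : G)⁻¹ * ((τ * a₁ * τ⁻¹ : ↥T) : G) * τ = (a₁ : G) by push_cast; group]
  exact (hD₁ a₁ (Or.inl rfl)).1

/-- An element of order seven normalizes, besides `W`, only conjugates meeting it. -/
theorem seven_meets (hs : c.Split) (he : Extra J I R) (F : FiveSeven J I R) (hf : HexFacts J I) {y : G}
    (hy : y ∈ normalizer (c.W : Set G)) (ho : orderOf y = 7) {U : Subgroup G} (hU : U ∈ c.Pts) (hne : U ≠ c.W)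
    (hyU : y ∈ normalizer (U : Set G)) : c.W ⊓ U ≠ ⊥ := by
  classical
  haveI : Fact (Nat.Prime 7) := ⟨by norm_num⟩
  obtain ⟨U₁, -, hU₁, -, hne₁, -, h1, -, -, -, hb₁, -, -⟩ := c.share_orbits hs he hf
  set N := normalizer (c.W : Set G) with hN
  have hd := ncard_orbS_mul N U₁
  rw [h1, c.card_NW hs he] at hd
  have h7 : 7 ∣ Nat.card ↥(N ⊓ normalizer (U₁ : Set G) : Subgroup G) := by omega
  obtain ⟨y', hy'o⟩ := exists_prime_orderOf_dvd_card' (G := ↥(N ⊓ normalizer (U₁ : Set G) : Subgroup G)) 7 h7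
  rw [← Subgroup.orderOf_coe] at hy'o
  obtain ⟨n, hn, i, -, e⟩ := exists_conj_pow (p := 7) (K := N) (by rw [c.card_NW hs he]; norm_num) hy y'.2.1 ho hy'o
  have hne' : conjS n U₁ ≠ c.W := fun e' => hne₁ (conjS_injective n (e'.trans (conjS_of_mem_normalizer hn).symm))
  have hyn : y ∈ normalizer (conjS n U₁ : Set G) := by
    rw [mem_normalizer_conjS, ← e, show n⁻¹ * (n * (y' : G) ^ i * n⁻¹) * n = (y' : G) ^ i by group]
    exact pow_mem y'.2.2 i
  obtain ⟨m, hm, rfl⟩ := c.seven_orbit hs he F hy ho (c.Pts_conj hU₁ n) hU hne' hne hyn hyU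
  intro hbot
  obtain ⟨x, hx, hx1⟩ := (c.W ⊓ U₁).bot_or_exists_ne_one.resolve_left hb₁
  have hmem : m * n * x * (m * n)⁻¹ ∈ c.W ⊓ conjS m (conjS n U₁) := by
    refine mem_inf.2 ⟨(mem_normalizer_iff.1 (mul_mem hm hn) x).1 hx.1, ?_⟩
    rw [conjS_conjS, mem_conjS, show (m * n)⁻¹ * (m * n * x * (m * n)⁻¹) * (m * n) = x by group]
    exact hx.2
  rw [hbot, mem_bot] at hmem
  exact hx1 (conj_eq_one_iff.1 hmem)

/-! ### Groups of order twenty-seven -/

/-- Only one conjugate of `z` centralizes a group of order 27 in the standard position. -/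
theorem eq_z_of_three (hs : c.Split) {Q : Subgroup G} {a b : A} (hQ : c.Three Q) (ha : a ∈ J) (hb : b ∈ J)
    (hao : orderOf a = 3) (hbo : orderOf b = 3) (hab : a * b = b * a) (hnb : b ∉ zpowers a)
    (h72 : Nat.card ↥(normalizer ((closure {a, b} : Subgroup A) : Set A) ⊓ J) = 72)
    (hsur : ∀ y ∈ closure ({a, b} : Set A), ∃ x ∈ Q, c.im x = y)
    (htr : ∀ v ∈ closure ({a, b} : Set A), v ≠ 1 →
      ∃ g ∈ J, IsConjugateBy g (closure {a, b}) (closure {a, b}) ∧ g * a * g⁻¹ = v)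
    {w : G} (hw : IsConj z w) (hwQ : ∀ q ∈ Q, q * w = w * q) : w = z := by
  classical
  haveI := c.finite_A
  have hw2 : w * w = 1 := by
    obtain ⟨g, rfl⟩ := isConj_iff.1 hw
    rw [show g * z * g⁻¹ * (g * z * g⁻¹) = g * (z * z) * g⁻¹ by group, c.zz, mul_one, mul_inv_cancel]
  have hw1 : w ≠ 1 := fun e => c.not_isConj_z_one (e ▸ hw)
  have hC : w ∈ c.C0 := by
    rw [← c.centralizer_P_eq hs]
    exact fun p hp => hwQ p (hQ.P_le hp)
  by_cases h1 : c.im w = 1
  · obtain ⟨q, hq, e | e⟩ := c.ker_C0 hC ((c.im_eq hC.1).symm.trans h1)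
    · exfalso
      have hd : orderOf w ∣ Nat.card ↥P := Subgroup.orderOf_dvd_natCard _ (e ▸ hq)
      rw [← c.zpowers_pg, Nat.card_zpowers, c.ord_pg, orderOf_eq_prime (p := 2) (by rw [pow_two, hw2]) hw1] at hd
      norm_num at hd
    · have hq3 : q * q * q = 1 := by
        rw [← c.zpowers_pg] at hq
        obtain ⟨i, rfl⟩ := mem_zpowers_iff.1 hq
        rw [← zpow_add, ← zpow_add, show i + i + i = (3 : ℤ) * i by ring, zpow_mul, zpow_ofNat,
          ← c.ord_pg, pow_orderOf_eq_one, one_zpow]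
      have hzq : z * q = q * z := (c.comm_z (c.P_le_C0 hq).1).symm
      have hq2 : q * q = 1 := by
        rw [e] at hw2
        calc q * q = z * (z * q) * q := by rw [← mul_assoc z z q, c.zz, one_mul]
          _ = z * (q * z) * q := by rw [hzq]
          _ = z * q * (z * q) := by group
          _ = 1 := hw2
      rw [e, show q = 1 by rwa [hq2, one_mul] at hq3, mul_one]
  · exfalso
    set Y := closure ({a, b} : Set A) with hY
    have hY9 : Nat.card ↥Y = 9 := card_closure_pair hao hbo hab hnb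
    have hj : c.im w ∈ J := by rw [c.im_eq hC.1]; exact (c.mem_M.1 (c.C0_le_M hC)).2
    have hcomm : ∀ y ∈ Y, c.im w * y = y * c.im w := by
      intro y hy
      obtain ⟨x, hx, rfl⟩ := hsur y hy
      rw [← c.im_mul hC.1 (hQ.le hx).1, ← c.im_mul (hQ.le hx).1 hC.1, hwQ x hx]
    set K := normalizer (Y : Set A) ⊓ J with hK
    have haY : a ∈ Y := subset_closure (Set.mem_insert _ _)
    have hwK : c.im w ∈ K ⊓ centralizer ({a} : Set A) := by
      refine ⟨⟨mem_normalizer_fintype fun y hy => ?_, hj⟩, mem_centralizer_singleton_iff.2 (hcomm a haY)⟩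
      show c.im w * y * (c.im w)⁻¹ ∈ Y
      rwa [hcomm y hy, mul_inv_cancel_right]
    have hcard := card_eq_orbit_mul (K := K) (a := a) (S := (Y : Set A) \ {1})
      (fun k hk => ⟨(mem_normalizer_iff.1 hk.1 a).1 haY, fun e => by
        rw [Set.mem_singleton_iff, conj_eq_one_iff] at e
        rw [e, orderOf_one] at hao
        norm_num at hao⟩)
      (fun v hv => by
        obtain ⟨g, hg, hgY, e⟩ := htr v hv.1 hv.2
        refine ⟨g, ⟨mem_normalizer_fintype fun y hy => (hgY _).2 ?_, hg⟩, e⟩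
        rwa [show g⁻¹ * (g * y * g⁻¹) * g = y by group])
    rw [Set.ncard_sdiff_singleton_of_mem (one_mem Y), ← Nat.card_coe_set_eq,
      show Nat.card ↥(Y : Set A) = Nat.card ↥Y from rfl, hY9, hK, h72, ← hK] at hcard
    have h9 : Nat.card ↥(K ⊓ centralizer ({a} : Set A) : Subgroup A) = 9 := by omega
    have hd := Subgroup.orderOf_dvd_natCard _ hwK
    rw [orderOf_eq_prime (p := 2) (by rw [pow_two, ← c.im_mul hC.1 hC.1, hw2, c.im_one]) h1, h9] at hd
    norm_num at hd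

/-- A group of order 27 normalizes, besides `W`, only conjugates meeting it. -/
theorem twenty_seven_meets (hs : c.Split) (he : Extra J I R) {U : Subgroup G} (hU : U ∈ c.Pts)
    {S : Subgroup G} (hS : Nat.card ↥S = 27) (hSW : S ≤ normalizer (c.W : Set G))
    (hSU : S ≤ normalizer (U : Set G)) : c.W ⊓ U ≠ ⊥ := by
  classical
  haveI : Fact (Nat.Prime 3) := ⟨Nat.prime_three⟩
  have hp : IsPGroup 3 ↥S := IsPGroup.of_card (n := 3) (by rw [hS]; norm_num)
  obtain ⟨g, hg⟩ := hU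
  have hU : U ∈ c.Pts := ⟨g, hg⟩
  -- fixed elements are conjugates of `z`
  have key : ∀ {V : Subgroup G} {k : G}, conjS k c.W = V → S ≤ normalizer (V : Set G) →
      ∃ v ∈ V, IsConj z v ∧ ∀ r ∈ S, r * v = v * r := by
    rintro _ k rfl hn
    obtain ⟨v, hv, h1, hc⟩ := exists_fixed_ne_one hp hn (by rw [card_conjS, c.card_W]; norm_num)
    refine ⟨v, hv, ?_, hc⟩
    by_contra hnc
    have ht : k⁻¹ * v * k ∈ c.Tset := ⟨mem_conjS.1 hv, fun e => h1 (by
      calc v = k * (k⁻¹ * v * k) * k⁻¹ := by group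
        _ = 1 := by rw [e]; group), fun h => hnc ((c.isConj_z_conj k⁻¹ v).1 (by rwa [inv_inv]))⟩
    have hcount := ncard_orbit_mul (normalizer (c.W : Set G)) (k⁻¹ * v * k)
    rw [show {y | ∃ n ∈ normalizer (c.W : Set G), n * (k⁻¹ * v * k) * n⁻¹ = y} = c.Tset from
      Set.ext fun y => ⟨fun ⟨n, hn', e⟩ => e ▸ c.conj_Tset hn' ht, fun hy => c.trans_Tset hs ht hy⟩,
      c.card_Tset hs, c.card_NW hs he] at hcount
    have hle : conjS k⁻¹ S ≤ normalizer (c.W : Set G) ⊓ centralizer ({k⁻¹ * v * k} : Set G) := by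
      intro r hr
      rw [mem_conjS, inv_inv] at hr
      have e : k⁻¹ * (k * r * k⁻¹) * k = r := by group
      refine ⟨e ▸ mem_normalizer_conjS.1 (hn hr), mem_centralizer_singleton_iff.2 ?_⟩
      calc r * (k⁻¹ * v * k) = k⁻¹ * ((k * r * k⁻¹) * v) * k := by group
        _ = k⁻¹ * (v * (k * r * k⁻¹)) * k := by rw [hc _ hr]
        _ = _ := by group
    have hd := card_dvd_of_le hle
    rw [card_conjS, hS] at hd
    omega
  obtain ⟨w, hw, hwc, hwS⟩ := key (conjS_one c.W) hSW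
  obtain ⟨u, hu, huc, huS⟩ := key hg hSU
  obtain ⟨Q, a, b, hQ, ha, hb, hao, hbo, hab, hnb, h72, -, hsur, htr⟩ := c.exists_three_facts
  obtain ⟨T, hT⟩ := c.three_sylow hs hQ
  obtain ⟨k, hk⟩ := CfsgLib.Invol.exists_conj_le_sylow hp T
  replace hk : ∀ q ∈ S, k * q * k⁻¹ ∈ Q := fun q hq => hT ▸ (hk q hq : _ ∈ (T : Subgroup G))
  have hQeq : ∀ q ∈ Q, ∃ r ∈ S, k * r * k⁻¹ = q := by
    have e : conjS k S = Q := eq_of_le_of_card_ge (fun q hq => by
      have := hk _ (mem_conjS.1 hq)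
      rwa [show k * (k⁻¹ * q * k) * k⁻¹ = q by group] at this) (by rw [card_conjS, hS, hQ.card])
    intro q hq
    exact ⟨k⁻¹ * q * k, mem_conjS.1 (e.symm ▸ hq), by group⟩
  have fin : ∀ {v : G}, IsConj z v → (∀ r ∈ S, r * v = v * r) → k * v * k⁻¹ = z := fun {v} hv hvS =>
    c.eq_z_of_three hs hQ ha hb hao hbo hab hnb h72 hsur htr ((c.isConj_z_conj k v).2 hv) fun q hq => by
      obtain ⟨r, hr, rfl⟩ := hQeq q hq
      rw [conj_mul, conj_mul, hvS r hr]
  have huw : u = w := mul_left_cancel (mul_right_cancel ((fin huc huS).trans (fin hwc hwS).symm))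
  intro hbot
  have h : w ∈ c.W ⊓ U := ⟨hw, huw ▸ hu⟩
  rw [hbot, mem_bot] at h
  exact c.not_isConj_z_one (h ▸ hwc)

/-! ### Order eleven -/

/-- An element of order eleven in a stabilizer containing no involution of `W`. -/
theorem eleven_stab (hs : c.Split) (he : Extra J I R) (F : FiveSeven J I R) {S : Subgroup G}
    (hS : S ≤ normalizer (c.W : Set G)) (hbot : c.W ⊓ S = ⊥) (h11 : 11 ∣ Nat.card ↥S) (h5 : ¬ 5 ∣ Nat.card ↥S) :
    ∃ m k : ℕ, Nat.card ↥S = m * (11 * k) ∧ (k = 1 ∨ k = 2) ∧ m % 11 = 1 := by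
  classical
  haveI : Fact (Nat.Prime 11) := ⟨by norm_num⟩
  obtain ⟨y, hyo⟩ := exists_prime_orderOf_dvd_card' (G := ↥S) 11 h11
  obtain ⟨t₀, y₀, f₀⟩ := c.exists_eleFrame hs he F
  obtain ⟨n, hn, i, -, e⟩ := exists_conj_pow (p := 11) f₀.not_eleven_sq_normalizer (hS y.2) f₀.y_mem
    (by rw [Subgroup.orderOf_coe, hyo]) f₀.ord_y
  have f : c.EleFrame (n * t₀ * n⁻¹) y := by
    refine ⟨hs, he, F, c.conj_Tset hn f₀.tmem, by rw [Subgroup.orderOf_coe, hyo], ?_⟩
    rw [← e, conj_mul, conj_mul, ((show Commute y₀ t₀ from f₀.comm).pow_left i).eq]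
  set t := n * t₀ * n⁻¹ with ht
  set Q := zpowers y with hQdef
  have hQc : Nat.card ↥Q = 11 := by rw [Nat.card_zpowers, hyo]
  -- the centralizer in `S`
  have hcent : centralizer (Q : Set ↥S) = Q := by
    refine le_antisymm (fun s hsQ => ?_) fun s hsQ => ?_
    · have hsy : (s : G) * y = y * s :=
        congrArg Subtype.val (mem_centralizer_iff.1 hsQ y (mem_zpowers y)).symm
      obtain ⟨j, hj | hj⟩ := f.mem_cent (hS s.2) hsy
      · exact mem_zpowers_iff.2 ⟨j, Subtype.ext (by rw [SubgroupClass.coe_zpow]; exact hj.symm)⟩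
      · exfalso
        have hm : t ∈ c.W ⊓ S := mem_inf.2 ⟨f.tmem.1, by
          rw [show t = (s : G) * ((y ^ j : ↥S) : G)⁻¹ by rw [SubgroupClass.coe_zpow, hj, mul_inv_cancel_right]]
          exact mul_mem s.2 (inv_mem (y ^ j).2)⟩
        rw [hbot, mem_bot] at hm
        exact f.tmem.2.1 hm
    · obtain ⟨j, rfl⟩ := mem_zpowers_iff.1 hsQ
      exact mem_centralizer_iff.2 fun v hv => by
        obtain ⟨i', rfl⟩ := mem_zpowers_iff.1 hv
        rw [← zpow_add, ← zpow_add, add_comm]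
  set N := normalizer (Q : Set ↥S)
  set φ := Q.normalizerMonoidHom
  have hker : Nat.card ↥φ.ker = 11 := by
    rw [normalizerMonoidHom_ker, Nat.card_congr (subgroupOfEquivOfLe (centralizer_le_normalizer _)).toEquiv, hcent, hQc]
  have hrange : Nat.card ↥φ.range ∣ 10 := by
    refine (card_subgroup_dvd_card φ.range).trans ?_
    haveI : IsCyclic ↥Q := inferInstanceAs (IsCyclic ↥(zpowers y))
    rw [IsCyclic.card_mulAut, hQc, Nat.totient_prime (by norm_num)]
  have hN : Nat.card ↥N = 11 * Nat.card ↥φ.range := by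
    rw [card_eq_card_quotient_mul_card_subgroup φ.ker, Nat.card_congr (QuotientGroup.quotientKerEquivRange φ).toEquiv,
      hker, mul_comm]
  have hidx : N.index * Nat.card ↥N = Nat.card ↥S := N.index_mul_card
  have hk : Nat.card ↥φ.range = 1 ∨ Nat.card ↥φ.range = 2 := by
    have h5' : ¬ 5 ∣ Nat.card ↥φ.range := fun h => h5 (hidx ▸ dvd_mul_of_dvd_right (hN ▸ dvd_mul_of_dvd_right h 11) _)
    have hle := Nat.le_of_dvd (by norm_num) hrange
    interval_cases h : Nat.card ↥φ.range <;> omega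
  refine ⟨N.index, Nat.card ↥φ.range, by rw [← hN, hidx], hk, ?_⟩
  have hfac : (Nat.card ↥S).factorization 11 = 1 := by
    have h1 := ((by norm_num : Nat.Prime 11).dvd_iff_one_le_factorization Nat.card_pos.ne').1 h11
    by_contra hne
    exact f.not_eleven_sq_normalizer ((((by norm_num : Nat.Prime 11).pow_dvd_iff_le_factorization
      (k := 2) (n := Nat.card ↥S) Nat.card_pos.ne').2 (by omega)).trans (card_dvd_of_le hS))
  let T : Sylow 11 ↥S := Sylow.ofCard Q (by rw [hfac, pow_one, hQc])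
  have h := card_sylow_modEq_one 11 ↥S
  rw [T.card_eq_index_normalizer, Nat.ModEq] at h
  exact h

end Ctx

end CfsgLib.Spor.JFourType
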