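import Cfsg.Agent.Lib.Spor.JFourType.Suborbit.Conj
import Cfsg.Agent.Lib.Spor.JFourType.Order.Singular

/-!
# The conjugates of `W` meeting it

Those through `z` fall into two classes, of 60 and of 16; they meet `W` in eight and in two elements, so the two
orbits of the normalizer have 15180 and 28336 members.
-/

set_option autoImplicit false
set_option linter.style.haveILetI false

namespace CfsgLib.Spor.JFourType.Ctx

open Subgroup Suborbit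

universe u

variable {G : Type u} [Group G] [Finite G] {A : Type} [Group A] {J I R : Subgroup A}
  {z : G} {P : Subgroup G} (c : Ctx J I R z P)
include c

/-- The conjugates of `z` in `W`. -/
def Zw : Set G := {y | y ∈ c.W ∧ IsConj z y}

/-- The conjugates of `z` in `W` normalizing a conjugate of `W` without lying in it. -/
def Yset (U : Subgroup G) : Set G := {y | y ∈ c.Zw ∧ y ∈ normalizer (U : Set G) ∧ y ∉ U}

theorem conj_Zw {n y : G} (hn : n ∈ normalizer (c.W : Set G)) : n * y * n⁻¹ ∈ c.Zw ↔ y ∈ c.Zw :=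
  and_congr (mem_normalizer_iff.1 hn y).symm (c.isConj_z_conj n y)

theorem Zw_mem_conj {U : Subgroup G} {n y : G} : n * y * n⁻¹ ∈ conjS n U ↔ y ∈ U := by
  rw [mem_conjS, show n⁻¹ * (n * y * n⁻¹) * n = y by group]

theorem image_conj {n : G} (hn : n ∈ normalizer (c.W : Set G)) {p q : G → Prop}
    (hpq : ∀ y, q (n * y * n⁻¹) ↔ p y) : {y | y ∈ c.Zw ∧ q y}.ncard = {y | y ∈ c.Zw ∧ p y}.ncard := by
  rw [← Set.ncard_image_of_injective {y | y ∈ c.Zw ∧ p y} (MulAut.conj n).injective]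
  congr 1
  ext w
  constructor
  · intro hw
    refine ⟨n⁻¹ * w * n, ?_, by simp [mul_assoc]⟩
    have e : n * (n⁻¹ * w * n) * n⁻¹ = w := by group
    exact ⟨(c.conj_Zw hn).1 (by rw [e]; exact hw.1), (hpq _).1 (by rw [e]; exact hw.2)⟩
  · rintro ⟨y, hy, rfl⟩
    exact ⟨(c.conj_Zw hn).2 hy.1, (hpq y).2 hy.2⟩

theorem ncard_Yset_conj {n : G} (hn : n ∈ normalizer (c.W : Set G)) (U : Subgroup G) :
    (c.Yset (conjS n U)).ncard = (c.Yset U).ncard :=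
  c.image_conj hn fun y => and_congr (by rw [mem_normalizer_conjS, show n⁻¹ * (n * y * n⁻¹) * n = y by group])
    (not_congr c.Zw_mem_conj)

theorem ncard_Zw_inf_conj {n : G} (hn : n ∈ normalizer (c.W : Set G)) (U : Subgroup G) :
    {y | y ∈ c.Zw ∧ y ∈ conjS n U}.ncard = {y | y ∈ c.Zw ∧ y ∈ U}.ncard :=
  c.image_conj hn fun _ => c.Zw_mem_conj

theorem W_inf_pure (hs : c.Split) {U : Subgroup G} (hU : U ∈ c.Pts) (hne : U ≠ c.W) {x : G} (hx : x ∈ c.W ⊓ U)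
    (h1 : x ≠ 1) : IsConj z x := by
  by_contra hc
  exact hne (c.eq_W_of_Tset hs hU ⟨hx.1, h1, hc⟩ hx.2)

theorem ncard_Zw_inf (hs : c.Split) {U : Subgroup G} (hU : U ∈ c.Pts) (hne : U ≠ c.W) :
    {y | y ∈ c.Zw ∧ y ∈ U}.ncard + 1 = Nat.card ↥(c.W ⊓ U) := by
  rw [show Nat.card ↥(c.W ⊓ U) = ((c.W ⊓ U : Subgroup G) : Set G).ncard from Nat.card_coe_set_eq _,
    show ((c.W ⊓ U : Subgroup G) : Set G) = insert 1 {y | y ∈ c.Zw ∧ y ∈ U} from ?_,
    Set.ncard_insert_of_notMem (fun h : (1 : G) ∈ {y | y ∈ c.Zw ∧ y ∈ U} => c.not_isConj_z_one h.1.2)]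
  ext x
  constructor
  · intro hx
    by_cases h1 : x = 1
    · exact Or.inl h1
    · exact Or.inr ⟨⟨hx.1, c.W_inf_pure hs hU hne hx h1⟩, hx.2⟩
  · rintro (rfl | h)
    · exact one_mem _
    · exact ⟨h.1.1, h.2⟩

section Through

variable {h : G} (hh : h ∈ c.H) (hne : conjS h c.W ≠ c.W)
include hh hne

theorem im_notMem : c.im h ∉ normalizer (I : Set A) := fun hn =>
  hne (conjS_of_mem_normalizer (c.normW_of_im hh hn))

theorem W_inf_eq : c.W ⊓ conjS h c.W = c.lift (c.U ⊓ c.Uh h) := by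
  ext x
  constructor
  · rintro ⟨hxW, hxU⟩
    replace hxU := mem_conjS.1 hxU
    have hi := c.im_mem_I_of_W hxU
    rw [show h⁻¹ * x * h = h⁻¹ * x * h⁻¹⁻¹ by rw [inv_inv], c.im_conj (inv_mem hh) (c.W_le_H hxW),
      c.im_inv hh, inv_inv] at hi
    have hi1 : c.im x = 1 := by
      by_contra h1
      exact c.im_notMem hh hne (c.normalizer_of_inv (a := ⟨c.im x, c.im_mem_I_of_W hxW⟩)
        (fun e => h1 (congrArg Subtype.val e)) hi)
    have hxE := c.mem_Ut_of_im_W hxW hi1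
    have hyE := c.W_inf_E hxU (c.conj_E' hh hxE.1)
    refine ⟨hxE.1, hxE.2, (c.mem_Uh hh).2 ?_⟩
    rw [← c.pv_conj (inv_mem hh) hxE.1, inv_inv]
    exact hyE.2
  · rintro ⟨hxE, hU, hV⟩
    refine ⟨c.Ut_sub_W ⟨hxE, hU⟩, mem_conjS.2 (c.Ut_sub_W ⟨c.conj_E' hh hxE, ?_⟩)⟩
    have := (c.mem_Uh hh).1 hV
    rw [← c.pv_conj (inv_mem hh) hxE, inv_inv] at this
    exact this

theorem card_W_inf : Nat.card ↥(c.W ⊓ conjS h c.W) ∈ ({2, 8, 32} : Set ℕ) := by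
  rw [c.W_inf_eq hh hne, c.card_lift]
  obtain ⟨k, hk, hck⟩ := c.card_addSubgroup (c.U ⊓ c.Uh h)
  have h3 := c.card_om_invariant (c.U ⊓ c.Uh h) fun v hv => ⟨c.U_om hv.1, c.om_act_U hh hv.2⟩
  have hl : Nat.card ↥(c.U ⊓ c.Uh h) ≤ 2 ^ 6 := c.card_U ▸ AddSubgroup.card_le_of_le inf_le_left
  have hn : Nat.card ↥(c.U ⊓ c.Uh h) ≠ 2 ^ 6 := fun e => c.im_notMem hh hne (c.im_normalizer_of_Uh hh (le_antisymm
    ((AddSubgroup.eq_of_le_of_card_ge (inf_le_right : c.U ⊓ c.Uh h ≤ c.Uh h) (by rw [e, c.card_Uh hh])).ge.trans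
      inf_le_left)
    ((AddSubgroup.eq_of_le_of_card_ge (inf_le_left : c.U ⊓ c.Uh h ≤ c.U) (by rw [e, c.card_U])).ge.trans
      inf_le_right)))
  rw [hck] at h3 hl hn ⊢
  simp only [Set.mem_insert_iff, Set.mem_singleton_iff]
  have hk6 : k ≤ 6 := (Nat.pow_le_pow_iff_right (by norm_num : 1 < 2)).1 hl
  interval_cases k <;> omega

theorem mem_normalizer_conj_iff {x : G} (hx : x ∈ c.W) :
    x ∈ normalizer (conjS h c.W : Set G) ↔ c.im x ∈ normalizer (conjS (c.im h) I : Set A) := by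
  haveI := c.finite_A
  rw [mem_normalizer_iff_conjS, mem_normalizer_iff_conjS, conjS_conjS, conjS_conjS,
    c.conjS_W_eq_iff (mul_mem (c.W_le_H hx) hh) hh, c.im_mul (c.W_le_H hx) hh]

theorem ncard_Yset_through (hs : c.Split) {m : ℕ} (hm : Nat.card ↥(I ⊓ normalizer (conjS (c.im h) I : Set A)) = m) :
    (c.Yset (conjS h c.W)).ncard + Nat.card ↥(c.W ⊓ conjS h c.W) = 92 + (m - 1) * 112 := by
  haveI := c.finite_A
  have hU : conjS h c.W ∈ c.Pts := ⟨h, rfl⟩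
  set K := normalizer (conjS (c.im h) I : Set A)
  rw [← c.ncard_Zw_inf hs hU hne, ← add_assoc]
  have e0 : (c.Yset (conjS h c.W)).ncard + {y | y ∈ c.Zw ∧ y ∈ conjS h c.W}.ncard =
      {y | y ∈ c.Zw ∧ c.im y ∈ K}.ncard := by
    rw [← Set.ncard_union_eq (Set.disjoint_left.2 fun y hy hy' => hy.2.2 hy'.2)]
    congr 1
    ext y
    constructor
    · rintro (⟨hy, hn, -⟩ | ⟨hy, hU'⟩)
      · exact ⟨hy, (c.mem_normalizer_conj_iff hh hne hy.1).1 hn⟩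
      · exact ⟨hy, (c.mem_normalizer_conj_iff hh hne hy.1).1 (le_normalizer hU')⟩
    · rintro ⟨hy, hK⟩
      by_cases hyU : y ∈ conjS h c.W
      · exact Or.inr ⟨hy, hyU⟩
      · exact Or.inl ⟨hy, (c.mem_normalizer_conj_iff hh hne hy.1).2 hK, hyU⟩
  set T : Set A := {i | i ∈ I ∧ i ∈ K ∧ i ≠ 1}
  have e1 : {y | y ∈ c.Zw ∧ c.im y ∈ K} = {x | x ∈ c.Ut ∧ IsConj z x} ∪ {y | y ∈ c.Zw ∧ c.im y ∈ T} := by
    ext y
    constructor
    · rintro ⟨hy, hK⟩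
      by_cases h1 : c.im y = 1
      · exact Or.inl ⟨c.mem_Ut_of_im_W hy.1 h1, hy.2⟩
      · exact Or.inr ⟨hy, c.im_mem_I_of_W hy.1, hK, h1⟩
    · rintro (⟨hy, hc⟩ | ⟨hy, -, hK, -⟩)
      · exact ⟨⟨c.Ut_sub_W hy, hc⟩, by rw [c.im_E hy.1]; exact one_mem _⟩
      · exact ⟨hy, hK⟩
  have e2 : {y | y ∈ c.Zw ∧ c.im y ∈ T}.ncard * 1 = T.ncard * 112 := by
    refine ncard_mul_eq _ T (fun y i => c.im y = i) (fun y hy => ?_) fun i hi => ?_
    · rw [Set.ncard_eq_one]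
      exact ⟨c.im y, by ext i; exact ⟨fun h => h.2.symm, fun h => ⟨h ▸ hy.2, h.symm⟩⟩⟩
    · rw [← hs.card_fibre i hi.1 hi.2.2]
      congr 1
      ext y
      exact ⟨fun h => ⟨h.1.1.1, h.2, h.1.1.2⟩, fun h => ⟨⟨⟨h.1, h.2.2⟩, h.2.1 ▸ hi⟩, h.2.1⟩⟩
  have e3 : T.ncard = m - 1 := by
    rw [show T = ((I ⊓ K : Subgroup A) : Set A) \ {1} from Set.ext fun i =>
        ⟨fun h => ⟨⟨h.1, h.2.1⟩, h.2.2⟩, fun h => ⟨h.1.1, h.1.2, h.2⟩⟩,
      Set.ncard_sdiff_singleton_of_mem (one_mem _), ← Nat.card_coe_set_eq]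
    exact congrArg (· - 1) hm
  rw [e0, e1, Set.ncard_union_eq (Set.disjoint_left.2 fun y hy hy' => hy'.2.2.2 (c.im_E hy.1.1)),
    hs.card_Ut_conj]
  omega

end Through

/-- The orbit of a conjugate through `z`, counted by the conjugates of `z` in it. -/
theorem orbit_count (hs : c.Split) {U : Subgroup G} (hU : U ∈ c.Pts) (hne : U ≠ c.W) {d : ℕ}
    (hd : Nat.card ↥(c.W ⊓ U) = d + 1) :
    (orbS (normalizer (c.W : Set G)) U).ncard * d =
      1771 * {V | V ∈ orbS (normalizer (c.W : Set G)) U ∧ z ∈ V}.ncard := by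
  have hz : ∀ V ∈ orbS (normalizer (c.W : Set G)) U, {y | y ∈ c.Zw ∧ y ∈ V}.ncard = d := by
    rintro _ ⟨n, hn, rfl⟩
    rw [c.ncard_Zw_inf_conj hn]
    have := c.ncard_Zw_inf hs hU hne
    omega
  rw [← hs.card_conj]
  refine (ncard_mul_eq (orbS (normalizer (c.W : Set G)) U) c.Zw (fun V y => y ∈ V) hz fun y hy => ?_)
  obtain ⟨n, hn, rfl⟩ := hs.fusion y hy.1 hy.2
  rw [← Set.ncard_image_of_injective {V | V ∈ orbS (normalizer (c.W : Set G)) U ∧ z ∈ V} (conjS_injective n)]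
  congr 1
  ext V
  constructor
  · rintro ⟨hV, hy'⟩
    refine ⟨conjS n⁻¹ V, ⟨?_, ?_⟩, by rw [conjS_conjS, mul_inv_cancel, conjS_one]⟩
    · rw [← orbS_eq_of_mem hV]
      exact ⟨n⁻¹, inv_mem hn, rfl⟩
    · rw [mem_conjS, inv_inv]
      exact hy'
  · rintro ⟨V', ⟨hV', hzV⟩, rfl⟩
    exact ⟨orbS_eq_of_mem hV' ▸ ⟨n, hn, rfl⟩, c.Zw_mem_conj.2 hzV⟩

theorem thru_act {h : G} (hh : h ∈ c.H) (hn : c.im h ∈ normalizer (I : Set A)) {v : c.Vs} {i : ↥I}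
    (hi : i ∈ c.thru v) : ∃ j ∈ c.thru (c.act h v), (j : A) = c.im h * i * (c.im h)⁻¹ := by
  refine ⟨⟨_, (mem_normalizer_iff.1 hn _).1 i.2⟩, ⟨fun e => hi.1 ?_, ?_⟩, rfl⟩
  · exact Subtype.ext (conj_eq_one_iff.1 (congrArg Subtype.val e))
  · have hf := fun w : c.Vs => c.Fx_conj hh (c.act_conj_lv hh (a := ⟨_, (mem_normalizer_iff.1 hn _).1 i.2⟩) (b := i) rfl) (v := w)
    intro u hu
    rw [← c.act_apply_inv hh u, c.Bf_act hh]
    exact hi.2 _ ((hf _).1 (by rwa [c.act_apply_inv hh]))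

end CfsgLib.Spor.JFourType.Ctx
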