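import Cfsg.Agent.Lib.Spor.JFourType.Suborbit.Share

/-!
# The two orbits on the conjugates meeting `W`
-/

set_option autoImplicit false
set_option linter.style.haveILetI false

namespace CfsgLib.Spor.JFourType.Ctx

open Subgroup Suborbit

universe u

variable {G : Type u} [Group G] [Finite G] {A : Type} [Group A] {J I R : Subgroup A}
  {z : G} {P : Subgroup G} (c : Ctx J I R z P)
include c

omit c [Finite G] in
/-- Images by two maps with the same fibres have the same number of elements. -/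
theorem ncard_image_congr {α β γ : Type*} [Finite α] {S : Set α} {f : α → β} {g : α → γ}
    (h : ∀ x ∈ S, ∀ y ∈ S, f x = f y ↔ g x = g y) : (f '' S).ncard = (g '' S).ncard := by
  classical
  refine Set.ncard_congr (fun b hb => g hb.choose) (fun b hb => ⟨_, hb.choose_spec.1, rfl⟩) ?_ ?_
  · intro a b ha hb e
    rw [← ha.choose_spec.2, ← hb.choose_spec.2]
    exact (h _ ha.choose_spec.1 _ hb.choose_spec.1).2 e
  · rintro _ ⟨x, hx, rfl⟩
    have hb : f x ∈ f '' S := ⟨x, hx, rfl⟩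
    exact ⟨f x, hb, (h _ hb.choose_spec.1 _ hx).1 hb.choose_spec.2⟩

/-- The conjugates over one orbit of the normalizer of `I` form part of one orbit of the normalizer of `W`. -/
theorem orbS_of_hexad {h k : G} (hh : h ∈ c.H) (hk : k ∈ c.H)
    (hK : conjS (c.im k) I ∈ orbS (normalizer (I : Set A)) (conjS (c.im h) I)) :
    conjS k c.W ∈ orbS (normalizer (c.W : Set G)) (conjS h c.W) := by
  obtain ⟨x, hx, e⟩ := hK
  obtain ⟨g, hg, rfl⟩ := c.exists_H_im x
  refine ⟨g, c.normW_of_im hg hx, ?_⟩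
  rw [conjS_conjS, c.conjS_W_eq_iff (mul_mem hg hh) hk, c.im_mul hg hh, ← conjS_conjS]
  exact e

theorem hexad_of_orbS {h k : G} (hh : h ∈ c.H) (hk : k ∈ c.H) {g : G} (hg : g ∈ c.H)
    (hgN : g ∈ normalizer (c.W : Set G)) (e : conjS g (conjS h c.W) = conjS k c.W) :
    conjS (c.im k) I ∈ orbS (normalizer (I : Set A)) (conjS (c.im h) I) := by
  refine ⟨c.im g, c.im_normalizer_of_W hg hgN, ?_⟩
  rw [conjS_conjS] at e
  rw [conjS_conjS, ← c.im_mul hg hh]
  exact (c.conjS_W_eq_iff (mul_mem hg hh) hk).1 e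

/-- A line of three involutions of `I` is not invariant under a group transitive on them. -/
theorem card_W_inf_two (hs : c.Split) {h : G} (hh : h ∈ c.H) (hne : conjS h c.W ≠ c.W)
    (h8 : Nat.card ↥(c.W ⊓ conjS h c.W) = 8)
    (htr : ∀ i ∈ I, i ≠ 1 → ∀ j ∈ I, j ≠ 1 → ∃ x : A, x ∈ normalizer (I : Set A) ∧
      conjS x (conjS (c.im h) I) = conjS (c.im h) I ∧ x * i * x⁻¹ = j) : False := by
  classical
  haveI := c.finite_A
  set V := c.U ⊓ c.Uh h with hV
  have hU : conjS h c.W ∈ c.Pts := ⟨h, rfl⟩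
  have hV4 : Nat.card ↥V = 4 := by
    have e := c.W_inf_eq hh hne
    rw [e, c.card_lift, ← hV] at h8
    omega
  obtain ⟨v, hv, hv0⟩ : ∃ v ∈ V, v ≠ 0 := by
    by_contra hcon
    push Not at hcon
    rw [(AddSubgroup.eq_bot_iff_forall _).2 hcon, AddSubgroup.card_bot] at hV4
    norm_num at hV4
  have hVom : ∀ w ∈ V, c.om w ∈ V := fun w hw => ⟨c.U_om hw.1, c.om_act_U hh hw.2⟩
  have hPt : ∀ w ∈ V, w ∈ c.Pt v := by
    intro w hw
    have e : c.Pt v = (V : Set c.Vs) := Set.eq_of_subset_of_ncard_le (c.Pt_subset hVom hv)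
      (by rw [c.ncard_Pt hv0, ← Nat.card_coe_set_eq]; exact hV4.le) (Set.toFinite _)
    exact e ▸ hw
  have hE : ∀ w ∈ V, w ≠ 0 → c.IsE w := by
    intro w hw hw0
    refine (c.isN_or_isE hw.1 hw0).resolve_left fun hN => ?_
    obtain ⟨e, he, rfl⟩ := c.pv_surj w
    have hm : e ∈ c.W ⊓ conjS h c.W := by
      rw [c.W_inf_eq hh hne]; exact ⟨he, hw⟩
    have ht := (c.Tset_Ut_iff hs ⟨he, hw.1⟩).2 hN
    exact ht.2.2 (c.W_inf_pure hs hU hne hm ht.2.1)
  obtain ⟨i, hi⟩ : (c.thru v).Nonempty := Set.nonempty_of_ncard_ne_zero (by rw [(hE v hv hv0).2.2]; norm_num)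
  have hall : {j : ↥I | j ≠ 1} ⊆ c.thru v := by
    intro j hj
    obtain ⟨x, hx, hxK, e⟩ := htr i i.2 (fun h => hi.1 (Subtype.ext h)) j j.2 (fun h => hj (Subtype.ext h))
    obtain ⟨g, hg, rfl⟩ := c.exists_H_im x
    have hgN := c.normW_of_im hg hx
    have hgU : conjS g (conjS h c.W) = conjS h c.W := by
      rw [conjS_conjS, c.conjS_W_eq_iff (mul_mem hg hh) hh, c.im_mul hg hh, ← conjS_conjS]
      exact hxK
    obtain ⟨j', hj', ej⟩ := c.thru_act hg hx hi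
    have hjj : j' = j := Subtype.ext (ej.trans e)
    subst hjj
    have hgv : c.act g v ∈ V := by
      obtain ⟨e', he', rfl⟩ := c.pv_surj v
      have hm : e' ∈ c.W ⊓ conjS h c.W := by rw [c.W_inf_eq hh hne]; exact ⟨he', hv⟩
      have hm' : g * e' * g⁻¹ ∈ c.W ⊓ conjS h c.W :=
        ⟨(mem_normalizer_iff.1 hgN _).1 hm.1, hgU ▸ (Ctx.Zw_mem_conj c).2 hm.2⟩
      rw [c.W_inf_eq hh hne] at hm'
      rw [← c.pv_conj hg he']
      exact hm'.2
    have hgv0 : c.act g v ≠ 0 := fun e0 => hv0 (c.act_injective hg (e0.trans (map_zero _).symm))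
    rcases hPt _ hgv with e' | e' | e' | e'
    · exact absurd e' hgv0
    · rwa [e'] at hj'
    · rwa [e', c.thru_om] at hj'
    · rw [Set.mem_singleton_iff] at e'
      rwa [e', c.thru_om, c.thru_om] at hj'
  have hc := Set.ncard_le_ncard hall (Set.toFinite _)
  rw [(hE v hv hv0).2.2, show {j : ↥I | j ≠ 1} = ((Set.univ : Set ↥I) \ {1}) by ext j; simp,
    Set.ncard_sdiff_singleton_of_mem (Set.mem_univ _), Set.ncard_univ, c.facts.card_I] at hc
  omega

/-- Some conjugate through `z` meets `W` in more than two elements. -/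
theorem exists_meet (hs : c.Split) (he : Extra J I R) (hf : HexFacts J I) :
    ∃ h ∈ c.H, conjS h c.W ≠ c.W ∧ Nat.card ↥(c.W ⊓ conjS h c.W) ≠ 2 := by
  classical
  haveI := c.finite_A
  by_contra hcon
  push Not at hcon
  set D := {e | e ∈ c.E ∧ e * e = 1 ∧ e ≠ 1 ∧ e ≠ z ∧ IsConj z e}
  set Q : Set (Subgroup A) := hexs I
  have hrep : ∀ K ∈ Q, ∃ h ∈ c.H, conjS (c.im h) I = K := by
    rintro K ⟨g, rfl⟩
    obtain ⟨h, hh, rfl⟩ := c.exists_H_im g
    exact ⟨h, hh, rfl⟩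
  -- each of the 77 gives 90 members of `D`
  have h90 : ∀ K ∈ Q, {e | e ∈ D ∧ ∃ h ∈ c.H, conjS (c.im h) I = K ∧ e ∈ conjS h c.W}.ncard = 90 := by
    intro K hK
    obtain ⟨h, hh, rfl⟩ := hrep K hK
    have hset : {e | e ∈ D ∧ ∃ k ∈ c.H, conjS (c.im k) I = conjS (c.im h) I ∧ e ∈ conjS k c.W} =
        (fun x => h * x * h⁻¹) '' ({x | x ∈ c.Ut ∧ IsConj z x} \ {z}) := by
      ext e
      constructor
      · rintro ⟨⟨heE, -, -, hz, hc⟩, k, hk, hkI, heU⟩
        rw [(c.conjS_W_eq_iff hk hh).2 hkI, mem_conjS] at heU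
        refine ⟨h⁻¹ * e * h, ⟨⟨c.W_inf_E heU (c.conj_E' hh heE), ?_⟩, fun e' => hz ?_⟩, by group⟩
        · rw [← c.isConj_z_conj h, show h * (h⁻¹ * e * h) * h⁻¹ = e by group]; exact hc
        · rw [Set.mem_singleton_iff] at e'
          calc e = h * (h⁻¹ * e * h) * h⁻¹ := by group
            _ = z := by rw [e']; exact c.mem_H_iff_fix.1 hh
      · rintro ⟨x, ⟨⟨hx, hc⟩, hxz⟩, rfl⟩
        refine ⟨⟨c.conj_E hh hx.1, ?_, ?_, ?_, (c.isConj_z_conj h x).2 hc⟩, h, hh, rfl,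
          mem_conjS.2 (by rw [show h⁻¹ * (h * x * h⁻¹) * h = x by group]; exact c.Ut_sub_W hx)⟩
        · rw [conj_mul, c.W_sq (c.Ut_sub_W hx), mul_one, mul_inv_cancel]
        · exact fun e' => c.not_isConj_z_one (conj_eq_one_iff.1 e' ▸ hc)
        · intro e'
          refine hxz ?_
          rw [Set.mem_singleton_iff]
          exact mul_left_cancel (mul_right_cancel (e'.trans (c.mem_H_iff_fix.1 hh).symm))
    rw [hset, Set.ncard_image_of_injective _ (fun a b e => mul_left_cancel (mul_right_cancel e)),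
      Set.ncard_sdiff_singleton_of_mem (show z ∈ {x | x ∈ c.Ut ∧ IsConj z x} from ⟨c.z_mem_Ut', IsConj.refl z⟩),
      hs.card_Ut_conj]
  have h1 : ∀ e ∈ D, {K | K ∈ Q ∧ ∃ h ∈ c.H, conjS (c.im h) I = K ∧ e ∈ conjS h c.W}.ncard ≤ 1 := by
    intro e he'
    refine (Set.ncard_le_one (Set.toFinite _)).2 fun K hK L hL => ?_
    obtain ⟨-, h, hh, rfl, heh⟩ := hK
    obtain ⟨-, k, hk, rfl, hek⟩ := hL
    by_contra hKL
    have hne : conjS (h⁻¹ * k) c.W ≠ c.W := fun e' => hKL ((c.conjS_W_eq_iff hh hk).1 (by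
      have := congrArg (conjS h) e'
      rwa [conjS_conjS, mul_inv_cancel_left, eq_comm] at this))
    have h2 := hcon _ (mul_mem (inv_mem hh) hk) hne
    have hle : zpowers z ⊔ zpowers (h⁻¹ * e * h) ≤ c.W ⊓ conjS (h⁻¹ * k) c.W := by
      refine sup_le (zpowers_le.2 ⟨c.z_mem_W', c.z_mem_conj (mul_mem (inv_mem hh) hk)⟩) (zpowers_le.2 ⟨mem_conjS.1 heh, ?_⟩)
      refine mem_conjS.2 ?_
      rw [show (h⁻¹ * k)⁻¹ * (h⁻¹ * e * h) * (h⁻¹ * k) = k⁻¹ * e * k by group]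
      exact mem_conjS.1 hek
    have h3 : ({1, z, h⁻¹ * e * h} : Set G).ncard = 3 := by
      refine Set.ncard_eq_three.2 ⟨1, z, h⁻¹ * e * h, c.z_ne.symm, fun e' => he'.2.2.1 ?_, fun e' => he'.2.2.2.1 ?_, rfl⟩
      · calc e = h * (h⁻¹ * e * h) * h⁻¹ := by group
          _ = 1 := by rw [← e']; group
      · calc e = h * (h⁻¹ * e * h) * h⁻¹ := by group
          _ = z := by rw [← e']; exact c.mem_H_iff_fix.1 hh
    have h4 : ({1, z, h⁻¹ * e * h} : Set G).ncard ≤ Nat.card ↥(c.W ⊓ conjS (h⁻¹ * k) c.W) := by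
      rw [show Nat.card ↥(c.W ⊓ conjS (h⁻¹ * k) c.W) = ((c.W ⊓ conjS (h⁻¹ * k) c.W : Subgroup G) : Set G).ncard from
        Nat.card_coe_set_eq _]
      refine Set.ncard_le_ncard ?_ (Set.toFinite _)
      rintro x (rfl | rfl | rfl)
      exacts [one_mem _, hle (mem_sup_left (mem_zpowers _)), hle (mem_sup_right (mem_zpowers _))]
    omega
  have hle := Finset.card_mul_le_card_mul (fun (K : Subgroup A) (e : G) => ∃ h ∈ c.H, conjS (c.im h) I = K ∧
    e ∈ conjS h c.W) (s := Q.toFinite.toFinset) (t := D.toFinite.toFinset) (m := 90) (n := 1) (fun K hK => ?_) fun e he' => ?_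
  · rw [← Set.ncard_eq_toFinset_card, ← Set.ncard_eq_toFinset_card, c.card_E_zz hs he, hf.card] at hle
    omega
  · rw [← h90 K ((Set.Finite.mem_toFinset _).1 hK), ← Set.ncard_coe_finset, Finset.bipartiteAbove, Finset.coe_filter]
    refine le_of_eq (congrArg Set.ncard ?_)
    ext; simp
  · refine le_trans (le_of_eq ?_) (h1 e ((Set.Finite.mem_toFinset _).1 he'))
    rw [← Set.ncard_coe_finset, Finset.bipartiteBelow, Finset.coe_filter]
    congr 1
    ext; simp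

/-- The two orbits on the conjugates meeting `W`. -/
theorem share_orbits (hs : c.Split) (he : Extra J I R) (hf : HexFacts J I) :
    ∃ U₁ U₂ : Subgroup G, U₁ ∈ c.Pts ∧ U₂ ∈ c.Pts ∧ U₁ ≠ c.W ∧ U₂ ≠ c.W ∧
      (orbS (normalizer (c.W : Set G)) U₁).ncard = 15180 ∧ (orbS (normalizer (c.W : Set G)) U₂).ncard = 28336 ∧
      (c.Yset U₁).ncard = 420 ∧ (c.Yset U₂).ncard = 90 ∧ c.W ⊓ U₁ ≠ ⊥ ∧ c.W ⊓ U₂ ≠ ⊥ ∧
      ∀ V ∈ c.Pts, V ≠ c.W → c.W ⊓ V ≠ ⊥ →
        V ∈ orbS (normalizer (c.W : Set G)) U₁ ∨ V ∈ orbS (normalizer (c.W : Set G)) U₂ := by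
  classical
  haveI := c.finite_A
  obtain ⟨g₁, g₂, o60, o16, hcov, i4, i16, htr⟩ := hf.near
  obtain ⟨h₁, hh₁, rfl⟩ := c.exists_H_im g₁
  obtain ⟨h₂, hh₂, rfl⟩ := c.exists_H_im g₂
  set N := normalizer (c.W : Set G)
  have hnI : ∀ {h : G}, h ∈ c.H → (orbS (normalizer (I : Set A)) (conjS (c.im h) I)).ncard ≠ 1 →
      conjS h c.W ≠ c.W := by
    intro h hh h1 e
    refine h1 ?_
    have hn := c.im_normalizer_of_W hh (mem_normalizer_iff_conjS.2 e)
    rw [conjS_of_mem_normalizer hn, Set.ncard_eq_one]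
    refine ⟨I, ?_⟩
    ext K
    exact ⟨fun ⟨x, hx, eK⟩ => eK ▸ conjS_of_mem_normalizer hx, fun hK => hK ▸ orbS_self _ _⟩
  have hne₁ := hnI hh₁ (by rw [o60]; norm_num)
  have hne₂ := hnI hh₂ (by rw [o16]; norm_num)
  -- classification
  have hclass : ∀ {V : Subgroup G}, V ∈ c.Pts → z ∈ V → V ≠ c.W →
      V ∈ orbS N (conjS h₁ c.W) ∨ V ∈ orbS N (conjS h₂ c.W) := by
    intro V hV hzV hne
    obtain ⟨k, hk, rfl⟩ := c.exists_H_conj hV hzV
    rcases hcov _ ⟨c.im k, rfl⟩ with h | h | h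
    · exfalso
      exact hne (conjS_of_mem_normalizer (c.normW_of_im hk (mem_normalizer_iff_conjS.2 h)))
    · exact Or.inl (c.orbS_of_hexad hh₁ hk h)
    · exact Or.inr (c.orbS_of_hexad hh₂ hk h)
  have hcard : ∀ {h : G}, h ∈ c.H → conjS h c.W ≠ c.W → ∀ V ∈ orbS N (conjS h c.W),
      Nat.card ↥(c.W ⊓ V) = Nat.card ↥(c.W ⊓ conjS h c.W) := by
    rintro h hh hne _ ⟨n, hn, rfl⟩
    have hU : conjS h c.W ∈ c.Pts := ⟨h, rfl⟩
    have hne' : conjS n (conjS h c.W) ≠ c.W := fun e => hne (conjS_injective n (e.trans (conjS_of_mem_normalizer hn).symm))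
    rw [← c.ncard_Zw_inf hs hU hne, ← c.ncard_Zw_inf hs (c.Pts_conj hU n) hne', c.ncard_Zw_inf_conj hn]
  set B := fun h : G => {V | V ∈ orbS N (conjS h c.W) ∧ z ∈ V}
  set Kset := fun h : G => (fun k => conjS (c.im k) I) '' {k | k ∈ c.H ∧ conjS k c.W ∈ orbS N (conjS h c.W)}
  have hB : ∀ h : G, (B h).ncard = (Kset h).ncard := by
    intro h
    have e : B h = (fun k => conjS k c.W) '' {k | k ∈ c.H ∧ conjS k c.W ∈ orbS N (conjS h c.W)} := by
      ext V
      constructor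
      · rintro ⟨hV, hzV⟩
        obtain ⟨n, hn, rfl⟩ := hV
        obtain ⟨k, hk, e⟩ := c.exists_H_conj (c.Pts_conj (c.Pts_conj c.W_mem_Pts h) n) hzV
        exact ⟨k, ⟨hk, ⟨n, hn, e.symm⟩⟩, e⟩
      · rintro ⟨k, ⟨hk, hkV⟩, rfl⟩
        exact ⟨hkV, c.z_mem_conj hk⟩
    rw [e]
    exact ncard_image_congr fun k hk l hl => c.conjS_W_eq_iff hk.1 hl.1
  have hN : ∀ {k : G}, k ∈ c.H → ∀ {h : G}, conjS (c.im k) I ∈ Kset h → conjS k c.W ∈ orbS N (conjS h c.W) := by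
    rintro k hk h ⟨l, ⟨hl, hlm⟩, e⟩
    rwa [(c.conjS_W_eq_iff hk hl).2 e.symm]
  -- a set of hexads closed under the normalizer is a union of the two classes
  have hcases : ∀ {h : G}, conjS h c.W ≠ c.W →
      (∀ k ∈ c.H, conjS (c.im k) I ∈ orbS (normalizer (I : Set A)) (conjS (c.im h₁) I) →
        conjS k c.W ∈ orbS N (conjS h c.W) → conjS h₁ c.W ∈ orbS N (conjS h c.W)) ∧
      Kset h = ({K | K ∈ orbS (normalizer (I : Set A)) (conjS (c.im h₁) I) ∧
          conjS h₁ c.W ∈ orbS N (conjS h c.W)} ∪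
        {K | K ∈ orbS (normalizer (I : Set A)) (conjS (c.im h₂) I) ∧ conjS h₂ c.W ∈ orbS N (conjS h c.W)}) := by
    intro h hne
    have up : ∀ {i k : G}, i ∈ c.H → k ∈ c.H →
        conjS (c.im k) I ∈ orbS (normalizer (I : Set A)) (conjS (c.im i) I) →
        (conjS k c.W ∈ orbS N (conjS h c.W) ↔ conjS i c.W ∈ orbS N (conjS h c.W)) := fun hi hk hK => by
      have e := orbS_eq_of_mem (c.orbS_of_hexad hi hk hK)
      constructor
      · intro hm
        rw [← orbS_eq_of_mem hm, e]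
        exact orbS_self _ _
      · intro hm
        rw [← orbS_eq_of_mem hm, ← e]
        exact orbS_self _ _
    refine ⟨fun k hk hK hm => (up hh₁ hk hK).1 hm, ?_⟩
    ext K
    constructor
    · rintro ⟨k, ⟨hk, hkm⟩, rfl⟩
      rcases hcov _ ⟨c.im k, rfl⟩ with e | e | e
      · exfalso
        obtain ⟨n, hn, en⟩ := hkm
        rw [conjS_of_mem_normalizer (c.normW_of_im hk (mem_normalizer_iff_conjS.2 e))] at en
        exact hne (conjS_injective n (en.trans (conjS_of_mem_normalizer hn).symm))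
      · exact Or.inl ⟨e, (up hh₁ hk e).1 hkm⟩
      · exact Or.inr ⟨e, (up hh₂ hk e).1 hkm⟩
    · rintro (⟨⟨x, hx, rfl⟩, hm⟩ | ⟨⟨x, hx, rfl⟩, hm⟩) <;> obtain ⟨g, hg, rfl⟩ := c.exists_H_im x
      · exact ⟨g * h₁, ⟨mul_mem hg hh₁, (up hh₁ (mul_mem hg hh₁) ⟨_, hx, by rw [conjS_conjS, c.im_mul hg hh₁]⟩).2 hm⟩,
          by rw [conjS_conjS, ← c.im_mul hg hh₁]⟩
      · exact ⟨g * h₂, ⟨mul_mem hg hh₂, (up hh₂ (mul_mem hg hh₂) ⟨_, hx, by rw [conjS_conjS, c.im_mul hg hh₂]⟩).2 hm⟩,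
          by rw [conjS_conjS, ← c.im_mul hg hh₂]⟩
  have hdisj : Disjoint (orbS (normalizer (I : Set A)) (conjS (c.im h₁) I))
      (orbS (normalizer (I : Set A)) (conjS (c.im h₂) I)) := Set.disjoint_left.2 fun K h h' => by
    rw [← orbS_eq_of_mem h, orbS_eq_of_mem h', o16] at o60
    norm_num at o60
  -- no intersection of order 32
  have h32 : ∀ {h : G}, h ∈ c.H → conjS h c.W ≠ c.W → Nat.card ↥(c.W ⊓ conjS h c.W) ≠ 32 := by
    intro h hh hne e
    have hc := c.orbit_count hs ⟨h, rfl⟩ hne (d := 31) e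
    change (orbS N (conjS h c.W)).ncard * 31 = 1771 * (B h).ncard at hc
    rw [hB h, (hcases hne).2, Set.ncard_union_eq (hdisj.mono (fun _ hK => hK.1) fun _ hK => hK.1)] at hc
    have hcase : ∀ {i : G} {n : ℕ}, (orbS (normalizer (I : Set A)) (conjS (c.im i) I)).ncard = n →
        {K | K ∈ orbS (normalizer (I : Set A)) (conjS (c.im i) I) ∧ conjS i c.W ∈ orbS N (conjS h c.W)}.ncard = 0 ∨
        {K | K ∈ orbS (normalizer (I : Set A)) (conjS (c.im i) I) ∧ conjS i c.W ∈ orbS N (conjS h c.W)}.ncard = n := by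
      intro i n en
      by_cases hm : conjS i c.W ∈ orbS N (conjS h c.W)
      · right; simp only [hm, and_true]; exact en
      · left; simp [hm]
    have hpos : 0 < (orbS N (conjS h c.W)).ncard := (Set.ncard_pos (Set.toFinite _)).2 ⟨_, orbS_self _ _⟩
    rcases hcase o60 with e1 | e1 <;> rcases hcase o16 with e2 | e2 <;> rw [e1, e2] at hc <;> omega
  have hsize : ∀ {h : G}, h ∈ c.H → conjS h c.W ≠ c.W →
      Nat.card ↥(c.W ⊓ conjS h c.W) = 2 ∨ Nat.card ↥(c.W ⊓ conjS h c.W) = 8 := by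
    intro h hh hne
    have := c.card_W_inf hh hne
    simp only [Set.mem_insert_iff, Set.mem_singleton_iff] at this
    rcases this with e | e | e
    exacts [Or.inl e, Or.inr e, absurd e (h32 hh hne)]
  have c2 : Nat.card ↥(c.W ⊓ conjS h₂ c.W) = 2 :=
    (hsize hh₂ hne₂).resolve_right fun e => c.card_W_inf_two hs hh₂ hne₂ e htr
  have c1 : Nat.card ↥(c.W ⊓ conjS h₁ c.W) = 8 := by
    refine (hsize hh₁ hne₁).resolve_left fun e => ?_
    obtain ⟨h, hh, hne, h2⟩ := c.exists_meet hs he hf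
    rcases hclass (V := conjS h c.W) ⟨h, rfl⟩ (c.z_mem_conj hh) hne with hm | hm
    · exact h2 ((hcard hh₁ hne₁ _ hm).trans e)
    · exact h2 ((hcard hh₂ hne₂ _ hm).trans c2)
  have n12 : conjS h₂ c.W ∉ orbS N (conjS h₁ c.W) := fun hm => by
    have := hcard hh₁ hne₁ _ hm
    rw [c1, c2] at this
    norm_num at this
  have n21 : conjS h₁ c.W ∉ orbS N (conjS h₂ c.W) := fun hm => by
    have := hcard hh₂ hne₂ _ hm
    rw [c1, c2] at this
    norm_num at this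
  have b1 : (B h₁).ncard = 60 := by
    rw [hB h₁, (hcases hne₁).2, ← o60]
    simp [n12, orbS_self]
  have b2 : (B h₂).ncard = 16 := by
    rw [hB h₂, (hcases hne₂).2, ← o16]
    simp [n21, orbS_self]
  have q1 := c.orbit_count hs ⟨h₁, rfl⟩ hne₁ (d := 7) c1
  have q2 := c.orbit_count hs ⟨h₂, rfl⟩ hne₂ (d := 1) c2
  change (orbS N (conjS h₁ c.W)).ncard * 7 = 1771 * (B h₁).ncard at q1
  change (orbS N (conjS h₂ c.W)).ncard * 1 = 1771 * (B h₂).ncard at q2
  rw [b1] at q1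
  rw [b2] at q2
  have hstab : ∀ {g : A} {n : ℕ}, (orbS I (conjS g I)).ncard = n → n * Nat.card ↥(I ⊓ normalizer (conjS g I : Set A)) = 16 :=
    fun {g n} e => by rw [← e, ncard_orbS_mul, c.facts.card_I]
  have y1 := c.ncard_Yset_through hh₁ hne₁ hs (m := 4) (by have := hstab i4; omega)
  have y2 := c.ncard_Yset_through hh₂ hne₂ hs (m := 1) (by have := hstab i16; omega)
  refine ⟨conjS h₁ c.W, conjS h₂ c.W, ⟨h₁, rfl⟩, ⟨h₂, rfl⟩, hne₁, hne₂, by omega, by omega, by omega, by omega,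
    fun e => by rw [e, Subgroup.card_bot] at c1; omega, fun e => by rw [e, Subgroup.card_bot] at c2; omega,
    fun V hV hne hbot => ?_⟩
  obtain ⟨x, hx, hx1⟩ := (c.W ⊓ V).bot_or_exists_ne_one.resolve_left hbot
  obtain ⟨n, hn, e⟩ := hs.fusion x hx.1 (c.W_inf_pure hs hV hne hx hx1)
  have hz : z ∈ conjS n⁻¹ V := by
    rw [mem_conjS, inv_inv, e]; exact hx.2
  have hne' : conjS n⁻¹ V ≠ c.W := fun e' => hne (conjS_injective n⁻¹ (e'.trans (conjS_of_mem_normalizer (inv_mem hn)).symm))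
  have back : ∀ {U : Subgroup G}, conjS n⁻¹ V ∈ orbS N U → V ∈ orbS N U := fun hm => by
    rw [← orbS_eq_of_mem hm]
    exact ⟨n, hn, by rw [conjS_conjS, mul_inv_cancel, conjS_one]⟩
  exact (hclass (c.Pts_conj hV _) hz hne').imp back back

end CfsgLib.Spor.JFourType.Ctx
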